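import Cfsg.Agent.F42.AllSys_m3
import Cfsg.Agent.FourTwo.BN
import Cfsg.Agent.H849.OZ.Bad_m3
import Cfsg.Agent.H121.OZ.JTwoCls_m3
import Cfsg.Agent.H130.F4Graph
import Cfsg.Agent.H224.F4R.Iso
import Cfsg.Agent.H115.PelQuot
import Cfsg.Agent.H363.Cyc.F4TwoDeg
import Cfsg.Agent.H730.OZ.Asm
import Cfsg.Agent.FastGrp
import Cfsg.Agent.Prune
set_option linter.all false

section
prune_inst 0x7f9dfffa3facafdfdfff7e3fffd1dffa51c4effff6dffb43bfe9ab9faf9f6be379c56b859fee58ff8e7662b410f87b03fb7eceffec6bdc7ffffd5ff41ffbffcfedf6350851d48c340fbc0fff03f17fce6f3ffffffffffffffffffffffffffffffffffbfeffff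

-- part: H23/OZ/FourTwoFacts
section
prune_inst 0x220005405200202000004000260005aa381000090000b8401450600040001c823090026001220030809c4a2204049c048121000394000000020008600400100008cab42423324a10426000fc08003110000000000000000000000000000000000004010000
set_option linter.all false
open scoped Cfsg.Agent.FastGrp

/-!
# Facts on `F₄(2)` for S4842 (helper23)

* `le_cent`    : the centralizer of a 2-element has order at least 16 (`|U : U'| ≥ 16`);
* `nine_dvd`   : the centralizer of an involution has order divisible by 9;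
* `no35`       : there is no element of order 35;
* `zA`, `zB`   : elements of order 7, no power of `zB` is conjugate to `zA`;
* `cent13`, `cent17` : the centralizers of the elements of order 13 and 17.
-/

set_option autoImplicit false
set_option maxRecDepth 100000

namespace Cfsg.Agent.H23.OZ.F42

open Cfsg Cfsg.Lie Cfsg.Agent.FourTwo.Base Cfsg.Agent.FourTwo.Classes Cfsg.Agent.FourTwo.ClassSep
open Cfsg.Agent.ChevalleyStructure.TwF4.Rel (sp refl)

attribute [local irreducible] x ec n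

/-! ### Abstract -/

/-- The centralizer is not smaller than a commutative image. -/
theorem card_range_le {P A : Type*} [Group P] [Finite P] [CommGroup A] (f : P →* A) (x : P) :
    Nat.card f.range ≤ Nat.card (Subgroup.centralizer ({x} : Set P)) := by
  have h1 : (Subgroup.centralizer ({x} : Set P)).index = Nat.card {y : P // IsConj x y} :=
    Cfsg.Agent.Characters.CentralCharacter.index_centralizer_eq_card x
  have h2 : Nat.card {y : P // IsConj x y} ≤ Nat.card f.ker := by
    refine Nat.card_le_card_of_injective (fun y => ⟨y.1 * x⁻¹, ?_⟩) ?_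
    · obtain ⟨c, hc⟩ := isConj_iff.1 y.2
      rw [MonoidHom.mem_ker, ← hc, map_mul, map_mul, map_mul, map_inv, map_inv, mul_comm (f c), mul_inv_cancel_right,
        mul_inv_cancel]
    · intro y y' h
      have h3 : y.1 * x⁻¹ = y'.1 * x⁻¹ := congrArg Subtype.val h
      exact Subtype.ext (mul_right_cancel h3)
  have h3 := (Subgroup.centralizer ({x} : Set P)).card_mul_index
  have h4 := f.ker.card_mul_index
  rw [Subgroup.index_ker] at h4
  rw [h1] at h3
  have h5 : 0 < Nat.card f.ker := Nat.card_pos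
  have h6 : Nat.card f.ker * Nat.card f.range ≤ Nat.card f.ker * Nat.card (Subgroup.centralizer ({x} : Set P)) := by
    rw [h4, ← h3, mul_comm]
    exact Nat.mul_le_mul_right _ h2
  exact Nat.le_of_mul_le_mul_left h6 h5

/-- The sign character of a subgroup of index two. -/
noncomputable def sgn {P : Type*} [Group P] (H : Subgroup P) (h : H.index = 2) : P →* ℤˣ := by
  classical
  exact
  { toFun := fun g => if g ∈ H then 1 else -1
    map_one' := if_pos H.one_mem
    map_mul' := fun a b => by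
      have h1 := Subgroup.mul_mem_iff_of_index_two h (a := a) (b := b)
      by_cases ha : a ∈ H
      · by_cases hb : b ∈ H
        · rw [if_pos (h1.2 (iff_of_true ha hb)), if_pos ha, if_pos hb, one_mul]
        · rw [if_neg (fun h2 => hb ((h1.1 h2).1 ha)), if_pos ha, if_neg hb, one_mul]
      · by_cases hb : b ∈ H
        · rw [if_neg (fun h2 => ha ((h1.1 h2).2 hb)), if_neg ha, if_pos hb, mul_one]
        · rw [if_pos (h1.2 (iff_of_false ha hb)), if_neg ha, if_neg hb, neg_mul_neg, one_mul] }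

theorem sgn_pos {P : Type*} [Group P] {H : Subgroup P} (h : H.index = 2) {g : P} (hg : g ∈ H) : sgn H h g = 1 := by
  classical
  exact if_pos hg

theorem sgn_neg {P : Type*} [Group P] {H : Subgroup P} (h : H.index = 2) {g : P} (hg : g ∉ H) : sgn H h g = -1 := by
  classical
  exact if_neg hg

/-- Two commuting elements of order three. -/
theorem nine_dvd_of {C : Type*} [Group C] [Finite C] {a b : C} (ha : orderOf a = 3) (hb : orderOf b = 3)
    (hab : Commute a b) (h1 : b ∉ Subgroup.zpowers a) : 9 ∣ Nat.card C := by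
  have hinf : Subgroup.zpowers a ⊓ Subgroup.zpowers b = ⊥ := by
    have h2 : Nat.card (Subgroup.zpowers a ⊓ Subgroup.zpowers b : Subgroup C) ∣ 3 := by
      rw [← hb, ← Nat.card_zpowers b]
      exact Subgroup.card_dvd_of_le inf_le_right
    rcases (Nat.dvd_prime Nat.prime_three).1 h2 with h3 | h3
    · exact Subgroup.card_eq_one.1 h3
    · exfalso
      have h4 : Subgroup.zpowers a ⊓ Subgroup.zpowers b = Subgroup.zpowers b :=
        Subgroup.eq_of_le_of_card_ge inf_le_right (by rw [h3, Nat.card_zpowers, hb])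
      have h5 : Subgroup.zpowers b ≤ Subgroup.zpowers a := inf_eq_right.1 h4
      exact h1 (h5 (Subgroup.mem_zpowers b))
  have hcomm : ∀ (u : Subgroup.zpowers a) (v : Subgroup.zpowers b), Commute (Subgroup.subtype _ u) (Subgroup.subtype _ v) := by
    rintro ⟨u, hu⟩ ⟨v, hv⟩
    obtain ⟨i, rfl⟩ := Subgroup.mem_zpowers_iff.1 hu
    obtain ⟨j, rfl⟩ := Subgroup.mem_zpowers_iff.1 hv
    exact (hab.zpow_left i).zpow_right j
  let f : Subgroup.zpowers a × Subgroup.zpowers b →* C :=
    MonoidHom.noncommCoprod (Subgroup.subtype _) (Subgroup.subtype _) hcomm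
  have hf : Function.Injective f := by
    rw [injective_iff_map_eq_one]
    rintro ⟨⟨u, hu⟩, ⟨v, hv⟩⟩ h
    have h2 : u * v = 1 := h
    have h3 : u = v⁻¹ := eq_inv_of_mul_eq_one_left h2
    have h4 : u ∈ Subgroup.zpowers a ⊓ Subgroup.zpowers b := ⟨hu, by rw [h3]; exact (Subgroup.zpowers b).inv_mem hv⟩
    rw [hinf, Subgroup.mem_bot] at h4
    have h5 : v = 1 := by rw [h4, one_mul] at h2; exact h2
    subst h4 h5
    rfl
  have h2 := Subgroup.card_dvd_of_injective f hf
  rw [Nat.card_prod, Nat.card_zpowers, Nat.card_zpowers, ha, hb] at h2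
  exact h2

/-- The centralizer in a subgroup is not larger. -/
theorem cent_sub_le {G : Type*} [Group G] [Finite G] {H : Subgroup G} (g : H) :
    Nat.card (Subgroup.centralizer ({g} : Set H)) ≤ Nat.card (Subgroup.centralizer ({(g : G)} : Set G)) := by
  let f : Subgroup.centralizer ({g} : Set H) → Subgroup.centralizer ({(g : G)} : Set G) := fun c =>
    ⟨((c : H) : G), by
      have h3 := Subgroup.mem_centralizer_singleton_iff.1 c.2
      rw [Subgroup.mem_centralizer_singleton_iff]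
      exact congrArg Subtype.val h3⟩
  refine Nat.card_le_card_of_injective f fun a b h => ?_
  have h' : ((a : H) : G) = ((b : H) : G) := congrArg (fun z : Subgroup.centralizer ({(g : G)} : Set G) => (z : G)) h
  exact Subtype.ext (Subtype.ext h')

theorem nine_dvd_cent {G : Type*} [Group G] [Finite G] {t a b : G} (ha : orderOf a = 3) (hb : orderOf b = 3)
    (hab : a * b = b * a) (h1 : a * b ≠ 1) (h2 : a * a * b ≠ 1) (hta : t * a = a * t) (htb : t * b = b * t) :
    9 ∣ Nat.card (Subgroup.centralizer ({t} : Set G)) := by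
  have hA : a ∈ Subgroup.centralizer ({t} : Set G) := by
    rw [Subgroup.mem_centralizer_singleton_iff, hta]
  have hB : b ∈ Subgroup.centralizer ({t} : Set G) := by
    rw [Subgroup.mem_centralizer_singleton_iff, htb]
  refine nine_dvd_of (a := (⟨a, hA⟩ : Subgroup.centralizer ({t} : Set G)))
    (b := ⟨b, hB⟩) (by rw [← ha, ← Subgroup.orderOf_coe]) (by rw [← hb, ← Subgroup.orderOf_coe])
    (Subtype.ext hab) fun hm => ?_
  obtain ⟨i, hi⟩ := Subgroup.mem_zpowers_iff.1 hm
  have hi' : a ^ i = b := congrArg Subtype.val hi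
  have h3 : a ^ (3 : ℤ) = 1 := by
    have h4 := pow_orderOf_eq_one a
    rw [ha] at h4
    exact_mod_cast h4
  have h4 : a ^ i = a ^ (i % 3) := by
    conv_lhs => rw [← Int.emod_add_mul_ediv i 3, zpow_add, zpow_mul, h3, one_zpow, mul_one]
  have h5 : i % 3 = 0 ∨ i % 3 = 1 ∨ i % 3 = 2 := by omega
  rcases h5 with h5 | h5 | h5
  · rw [h4, h5, zpow_zero] at hi'
    rw [← hi', orderOf_one] at hb
    norm_num at hb
  · rw [h4, h5, zpow_one] at hi'
    apply h2
    rw [← hi', ← pow_two, ← pow_succ]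
    exact_mod_cast h3
  · rw [h4, h5] at hi'
    apply h1
    rw [← hi', ← zpow_one_add]
    exact h3

/-! ### The 2-elements -/

/-- the elements of `U` mapped into `U` by `n i` -/
def HH (i : ℕ) : Subgroup UL := (UL.comap (MulAut.conj (n i)).toMonoidHom).subgroupOf UL

theorem mem_HH {i : ℕ} {g : UL} : g ∈ HH i ↔ n i * (g : LL) * (n i)⁻¹ ∈ UL := by
  unfold HH
  rw [Subgroup.mem_subgroupOf, Subgroup.mem_comap]
  rfl

theorem card_bit (s : ℕ) (hs : s < 24) :
    2 * ((Finset.range (2 ^ 24)).filter fun a => a.testBit s = false).card = 2 ^ 24 := by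
  have h1 : ((Finset.range (2 ^ 24)).filter fun a => a.testBit s = false).card =
      ((Finset.range (2 ^ 24)).filter fun a => ¬ a.testBit s = false).card := by
    refine Finset.card_bij (fun a _ => a ^^^ 2 ^ s) (fun a ha => ?_) (fun a _ b _ h => ?_) (fun b hb => ?_)
    · rw [Finset.mem_filter, Finset.mem_range] at ha ⊢
      refine ⟨Nat.xor_lt_two_pow ha.1 (Nat.pow_lt_pow_right (by norm_num) hs), ?_⟩
      rw [Nat.testBit_xor, ha.2, Nat.testBit_two_pow_self]
      simp
    · exact Nat.xor_left_injective h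
    · rw [Finset.mem_filter, Finset.mem_range] at hb
      refine ⟨b ^^^ 2 ^ s, ?_, by rw [Nat.xor_assoc, Nat.xor_self, Nat.xor_zero]⟩
      rw [Finset.mem_filter, Finset.mem_range]
      refine ⟨Nat.xor_lt_two_pow hb.1 (Nat.pow_lt_pow_right (by norm_num) hs), ?_⟩
      rw [Bool.not_eq_false] at hb
      rw [Nat.testBit_xor, hb.2, Nat.testBit_two_pow_self]
      simp
  have h2 := Finset.card_filter_add_card_filter_not (s := Finset.range (2 ^ 24)) (fun a : ℕ => a.testBit s = false)
  rw [← h1, Finset.card_range] at h2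
  omega

theorem sp_tab : ∀ i < 4, 24 ≤ sp i ∧ sp i < 48 ∧ refl i (sp i) < 24 ∧
    ∀ j < 4, j ≠ i → 24 ≤ refl i (sp j) ∧ refl i (sp j) < 48 := by decide +kernel

theorem x_not_mem {r : ℕ} (hr : r < 24) : x r ∉ UL := fun h => by
  have := Cfsg.Agent.FourTwo.BN.pos_of_mem_U (r := r) (by omega) h
  omega

/-- the simple root elements in `U` -/
def xs (i : ℕ) (hi : i < 4) : UL := ⟨x (sp i), x_mem_UL (sp_tab i hi).1 (sp_tab i hi).2.1⟩

theorem xs_not_mem {i : ℕ} (hi : i < 4) : xs i hi ∉ HH i := by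
  rw [mem_HH]
  show n i * x (sp i) * (n i)⁻¹ ∉ UL
  rw [n_conj hi (sp_tab i hi).2.1]
  exact x_not_mem (sp_tab i hi).2.2.1

theorem xs_mem {i j : ℕ} (hi : i < 4) (hj : j < 4) (h : j ≠ i) : xs j hj ∈ HH i := by
  rw [mem_HH]
  show n i * x (sp j) * (n i)⁻¹ ∈ UL
  rw [n_conj hi (sp_tab j hj).2.1]
  exact x_mem_UL ((sp_tab i hi).2.2.2 j hj h).1 ((sp_tab i hi).2.2.2 j hj h).2

theorem index_HH {i : ℕ} (hi : i < 4) : (HH i).index = 2 := by
  have h1 : 2 ^ 23 ≤ Nat.card (HH i) := by
    have h2 := card_bit (sp i - 24) (by have := (sp_tab i hi).2.1; omega)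
    set A := (Finset.range (2 ^ 24)).filter fun a => a.testBit (sp i - 24) = false with hA
    have h3 : A.card = 2 ^ 23 := by omega
    rw [← h3, ← Fintype.card_coe, ← Nat.card_eq_fintype_card]
    have h4 : ∀ a : A, (a : ℕ) < 2 ^ 24 ∧ (a : ℕ).testBit (sp i - 24) = false := fun a => by
      obtain ⟨h5, h6⟩ := Finset.mem_filter.1 a.2
      exact ⟨Finset.mem_range.1 h5, h6⟩
    refine Nat.card_le_card_of_injective (fun a : A => (⟨⟨ec a, ec_mem_UL a⟩, ?_⟩ : HH i)) ?_
    · rw [mem_HH]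
      show n i * ec a * (n i)⁻¹ ∈ UL
      rw [← ec_reflU hi (h4 a).2]
      exact ec_mem_UL _
    · intro a b h
      have h5 : ec a = ec b := congrArg (fun g : HH i => ((g : UL) : LL)) h
      exact Subtype.ext (ec_inj (h4 a).1 (h4 b).1 h5)
  have h2 := (HH i).card_mul_index
  rw [card_UL] at h2
  have h3 : (HH i).index ≠ 1 := by
    rw [Ne, Subgroup.index_eq_one]
    intro h
    exact xs_not_mem hi (h ▸ Subgroup.mem_top _)
  have h4 : (HH i).index ≠ 0 := Subgroup.index_ne_zero_of_finite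
  have h5 : (HH i).index ≤ 2 := by
    by_contra hlt
    have h6 : 3 ≤ (HH i).index := by omega
    have h7 := Nat.mul_le_mul h1 h6
    rw [h2] at h7
    norm_num at h7
  omega

/-- the four sign characters -/
noncomputable def Phi : UL →* (Fin 4 → ℤˣ) := MonoidHom.pi fun i : Fin 4 => sgn (HH i) (index_HH i.2)

theorem Phi_xs (i j : Fin 4) : Phi (xs j j.2) i = if i = j then -1 else 1 := by
  have h : Phi (xs j j.2) i = sgn (HH i) (index_HH i.2) (xs j j.2) := rfl
  rw [h]
  split_ifs with hij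
  · subst hij
    exact sgn_neg _ (xs_not_mem i.2)
  · exact sgn_pos _ (xs_mem i.2 j.2 fun h => hij (Fin.ext h.symm))

theorem Phi_surj : Function.Surjective Phi := by
  intro e
  refine ⟨(if e 0 = 1 then 1 else xs 0 (by norm_num)) * (if e 1 = 1 then 1 else xs 1 (by norm_num))
    * (if e 2 = 1 then 1 else xs 2 (by norm_num)) * (if e 3 = 1 then 1 else xs 3 (by norm_num)), ?_⟩
  have h : ∀ (j : Fin 4) (i : Fin 4), Phi (if e j = 1 then 1 else xs j j.2) i = if i = j then e j else 1 := by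
    intro j i
    rcases Int.units_eq_one_or (e j) with h | h
    · rw [if_pos h, map_one, Pi.one_apply, h, ite_self]
    · rw [if_neg (by rw [h]; decide), Phi_xs, h]
  funext i
  rw [map_mul, map_mul, map_mul, Pi.mul_apply, Pi.mul_apply, Pi.mul_apply]
  have h0 := h 0 i
  have h1 := h 1 i
  have h2 := h 2 i
  have h3 := h 3 i
  simp only [Fin.val_zero, Fin.val_one, Fin.val_two] at h0 h1 h2
  have e3 : ((3 : Fin 4) : ℕ) = 3 := rfl
  simp only [e3] at h3
  rw [h0, h1, h2, h3]
  fin_cases i <;> simp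

/-- The centralizer in `U`. -/
theorem le_cent_UL (g : UL) : 16 ≤ Nat.card (Subgroup.centralizer ({g} : Set UL)) := by
  have h1 := card_range_le Phi g
  rw [MonoidHom.range_eq_top.2 Phi_surj, Subgroup.card_top, Nat.card_eq_fintype_card] at h1
  have h2 : Fintype.card (Fin 4 → ℤˣ) = 16 := by rw [Fintype.card_fun]; rfl
  rwa [h2] at h1

/-- **The centralizers of the 2-elements.** -/
theorem le_cent {g : LL} {k : ℕ} (hg : orderOf g = 2 ^ k) :
    16 ≤ Nat.card (Subgroup.centralizer ({g} : Set LL)) := by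
  have hQ : IsPGroup 2 (Subgroup.zpowers g) := IsPGroup.of_card (n := k) (by rw [Nat.card_zpowers, hg])
  obtain ⟨y, hy⟩ := exists_conj_le hQ
  have h1 := hy g (Subgroup.mem_zpowers g)
  have h2 : Nat.card (Subgroup.centralizer ({g} : Set LL)) = Nat.card (Subgroup.centralizer ({y * g * y⁻¹} : Set LL)) :=
    Cfsg.Agent.H672.OZ.cent_eq_of_conj (isConj_iff.2 ⟨y, rfl⟩)
  rw [h2]
  exact (le_cent_UL ⟨_, h1⟩).trans (cent_sub_le _)

/-! ### Involutions and elements of order three -/

/-- a word of length at most the bound -/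
theorem ord_three {w : List ℕ} (h3 : chk (w ++ w ++ w) [] = true) (hw : (w.all fun r => decide (r < 48)) = true)
    (h1 : iv w ≠ iv []) : orderOf (wd w) = 3 := by
  refine orderOf_eq_prime ?_ fun h => ?_
  · have h2 := wd_eq _ _ h3
    rw [wd_append, wd_append, wd_nil] at h2
    rw [pow_succ, pow_two, h2]
  · apply h1
    rw [← rk2_wd w hw, ← rk2_wd [] rfl, h, wd_nil]

theorem nine_of {t a b : List ℕ} (ha3 : chk (a ++ a ++ a) [] = true) (hb3 : chk (b ++ b ++ b) [] = true)
    (ha : (a.all fun r => decide (r < 48)) = true) (hb : (b.all fun r => decide (r < 48)) = true)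
    (ha1 : iv a ≠ iv []) (hb1 : iv b ≠ iv [])
    (hab : chk (a ++ b) (b ++ a) = true) (h1 : iv (a ++ b) ≠ iv []) (h2 : iv (a ++ a ++ b) ≠ iv [])
    (hta : chk (t ++ a) (a ++ t) = true) (htb : chk (t ++ b) (b ++ t) = true) :
    9 ∣ Nat.card (Subgroup.centralizer ({wd t} : Set LL)) := by
  have hall : ∀ {u v : List ℕ}, (u.all fun r => decide (r < 48)) = true → (v.all fun r => decide (r < 48)) = true →
      ((u ++ v).all fun r => decide (r < 48)) = true := fun hu hv => by
    rw [List.all_append, hu, hv]; rfl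
  refine nine_dvd_cent (ord_three ha3 ha ha1) (ord_three hb3 hb hb1) ?_ ?_ ?_ ?_ ?_
  · rw [← wd_append, ← wd_append]
    exact wd_eq _ _ hab
  · intro h
    apply h1
    rw [← rk2_wd _ (hall ha hb), ← rk2_wd [] rfl, wd_append, wd_nil, h]
  · intro h
    apply h2
    rw [← rk2_wd _ (hall (hall ha ha) hb), ← rk2_wd [] rfl, wd_append, wd_append, wd_nil, h]
  · rw [← wd_append, ← wd_append]
    exact wd_eq _ _ hta
  · rw [← wd_append, ← wd_append]
    exact wd_eq _ _ htb

theorem nine44 : 9 ∣ Nat.card (Subgroup.centralizer ({x 44} : Set LL)) := by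
  rw [← wd_one]
  exact nine_of (t := [44]) (a := [24, 23]) (b := [27, 20]) (by decide +kernel) (by decide +kernel) (by decide)
    (by decide) (by decide +kernel) (by decide +kernel) (by decide +kernel) (by decide +kernel) (by decide +kernel)
    (by decide +kernel) (by decide +kernel)

theorem nine47 : 9 ∣ Nat.card (Subgroup.centralizer ({x 47} : Set LL)) := by
  rw [← wd_one]
  exact nine_of (t := [47]) (a := [27, 20]) (b := [28, 19]) (by decide +kernel) (by decide +kernel) (by decide)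
    (by decide) (by decide +kernel) (by decide +kernel) (by decide +kernel) (by decide +kernel) (by decide +kernel)
    (by decide +kernel) (by decide +kernel)

theorem nine4447 : 9 ∣ Nat.card (Subgroup.centralizer ({x 44 * x 47} : Set LL)) := by
  rw [← wd_one 47, ← wd_cons]
  exact nine_of (t := [44, 47]) (a := [27, 20]) (b := [28, 19]) (by decide +kernel) (by decide +kernel) (by decide)
    (by decide) (by decide +kernel) (by decide +kernel) (by decide +kernel) (by decide +kernel) (by decide +kernel)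
    (by decide +kernel) (by decide +kernel)

theorem nine4432 : 9 ∣ Nat.card (Subgroup.centralizer ({x 44 * x 32} : Set LL)) := by
  rw [← wd_one 32, ← wd_cons]
  exact nine_of (t := [44, 32]) (a := [24, 23]) (b := [27, 20]) (by decide +kernel) (by decide +kernel) (by decide)
    (by decide) (by decide +kernel) (by decide +kernel) (by decide +kernel) (by decide +kernel) (by decide +kernel)
    (by decide +kernel) (by decide +kernel)

/-- **The centralizers of the involutions.** -/
theorem nine_dvd {t : LL} (ht : orderOf t = 2) : 9 ∣ Nat.card (Subgroup.centralizer ({t} : Set LL)) := by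
  have h2 : t * t = 1 := by
    have h3 := pow_orderOf_eq_one t
    rwa [ht, pow_two] at h3
  have h1 : t ≠ 1 := by
    rintro rfl
    rw [orderOf_one] at ht
    norm_num at ht
  obtain ⟨y, hy⟩ := exists_class h2 h1
  have key : ∀ s : LL, y * t * y⁻¹ = s → Nat.card (Subgroup.centralizer ({t} : Set LL)) =
      Nat.card (Subgroup.centralizer ({s} : Set LL)) := fun s hs =>
    Cfsg.Agent.H672.OZ.cent_eq_of_conj (isConj_iff.2 ⟨y, hs⟩)
  rcases hy with h | h | h | h
  · rw [key _ h]; exact nine44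
  · rw [key _ h]; exact nine47
  · rw [key _ h]; exact nine4447
  · rw [key _ h]; exact nine4432

/-! ### Odd orders -/

/-- **There is no element of order 35.** -/
theorem no35 (g : LL) : ¬ (5 ∣ orderOf g ∧ 7 ∣ orderOf g) := by
  rintro ⟨h5, h7⟩
  have h35 : 35 ∣ orderOf g := Nat.Coprime.mul_dvd_of_dvd_of_dvd (by norm_num : Nat.Coprime 5 7) h5 h7
  have hc : Fintype.card (ZMod 2) = 2 := ZMod.card 2
  have o5 : orderOf ((Fintype.card (ZMod 2) : ℕ) : ZMod 5) = 4 := by
    rw [hc, orderOf_eq_iff (by norm_num)]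
    decide
  have o7 : orderOf ((Fintype.card (ZMod 2) : ℕ) : ZMod 7) = 3 := by
    rw [hc, orderOf_eq_iff (by norm_num)]
    decide
  have h := (Cfsg.Agent.H130.F4Graph.odd_iff (F := ZMod 2) (r := 5) (s := 7) (by norm_num) (by norm_num) (by norm_num)
    (by norm_num) (by norm_num) (by rw [hc]; norm_num) (by rw [hc]; norm_num) (by rw [o5]; decide)
    (by rw [o7]; decide)).1 ⟨g ^ (orderOf g / 35), by
      rw [orderOf_pow_orderOf_div (orderOf_pos g).ne' h35]⟩
  rw [o5, o7] at h
  revert h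
  unfold Cfsg.Agent.H130.F4Graph.Adj
  decide

/-- **The elements of order 13.** -/
theorem cent13 {y : LL} (hy : orderOf y = 13) : Nat.card (Subgroup.centralizer ({y} : Set LL)) = 13 := by
  have hc : Nat.card (ZMod 2) = 2 := by rw [Nat.card_eq_fintype_card]; exact ZMod.card 2
  have h := (Cfsg.Agent.H224.F4R.tor12 (ZMod 2)).ct 13 (by norm_num) (by
    rw [hc]
    exact Cfsg.Agent.H946.Num.od_N12 (by norm_num) (by decide)) y hy
  rw [h, hc]
  rfl

/-- **The elements of order 17.** -/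
theorem cent17 {y : LL} (hy : orderOf y = 17) : Nat.card (Subgroup.centralizer ({y} : Set LL)) = 17 := by
  have hc : Nat.card (ZMod 2) = 2 := by rw [Nat.card_eq_fintype_card]; exact ZMod.card 2
  have h := (Cfsg.Agent.H224.F4R.tor8 (ZMod 2)).ct 17 (by norm_num) (by
    rw [hc]
    exact Cfsg.Agent.H946.Num.od_N8 (by norm_num) (by decide) (by norm_num)) y hy
  rw [h, hc]
  norm_num

/-! ### Two elements of order seven -/

/-- in the long `SL₃(2)` -/
def wA : List ℕ := [33, 14, 20, 27]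

/-- in the short `SL₃(2)` -/
def wB : List ℕ := [25, 22, 23, 24]

theorem wd_flatten (w : List ℕ) (k : ℕ) : wd (List.replicate k w).flatten = wd w ^ k := by
  induction k with
  | zero => rw [List.replicate_zero, List.flatten_nil, wd_nil, pow_zero]
  | succ k ih => rw [List.replicate_succ, List.flatten_cons, wd_append, ih, pow_succ']

theorem ord_seven {w : List ℕ} (h7 : chk (List.replicate 7 w).flatten [] = true)
    (hw : (w.all fun r => decide (r < 48)) = true) (h1 : iv w ≠ iv []) : orderOf (wd w) = 7 := by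
  have : Fact (Nat.Prime 7) := ⟨by norm_num⟩
  refine orderOf_eq_prime ?_ fun h => ?_
  · rw [← wd_flatten, wd_eq _ _ h7, wd_nil]
  · apply h1
    rw [← rk2_wd w hw, ← rk2_wd [] rfl, h, wd_nil]

theorem ordA : orderOf (wd wA) = 7 := ord_seven (by decide +kernel) (by decide) (by decide +kernel)

theorem ordB : orderOf (wd wB) = 7 := ord_seven (by decide +kernel) (by decide) (by decide +kernel)

theorem sep_tab : ∀ k < 7, iv wA ≠ iv (List.replicate k wB).flatten ∧
    ((List.replicate k wB).flatten.all fun r => decide (r < 48)) = true := by decide +kernel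

/-- **`zA` is not conjugate to a power of `zB`.** -/
theorem not_conj (k : ℕ) : ¬ IsConj (wd wA) (wd wB ^ k) := by
  intro h
  obtain ⟨c, hc⟩ := isConj_iff.1 h
  have h1 : wd wB ^ k = wd wB ^ (k % 7) := by
    conv_lhs => rw [← Nat.mod_add_div k 7, pow_add, pow_mul, ← ordB, pow_orderOf_eq_one, one_pow, mul_one, ordB]
  have h2 := sep_tab (k % 7) (Nat.mod_lt _ (by norm_num))
  apply h2.1
  rw [← rk2_wd _ (by decide : (wA.all fun r => decide (r < 48)) = true), ← rk2_wd _ h2.2, wd_flatten, ← h1, ← hc,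
    rk2_conj]

end Cfsg.Agent.H23.OZ.F42

private theorem dce_e770ae147411 : _root_.True := by
  try have : _root_.True := by simp only [_root_.Cfsg.Agent.H23.OZ.F42.xs.congr_simp]
  try have : _root_.True := by simp only [_root_.Cfsg.Agent.H23.OZ.F42.sgn.congr_simp]
  exact _root_.True.intro
end

-- part: H23/OZ/FourTwo
section
prune_inst 0x4000008000100000000000000000000000000000000000000200001000000000080020000080000000000000000040000000000000000000000000000000001001000100000000000000000000000000000000000000000000000000000000000000000000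
set_option linter.all false
open scoped Cfsg.Agent.FastGrp

-- part: H23/OZ/Even
section
/-!
# One vanishing class: characters of even degree at the 2-elements (helper23, S4842)

* `even_sum` : the mean of `|χ (u ^ (2 j + 1))| ^ 2`, `u ^ (2 h) = 1`, is an integer, and even if the degree is even;
* `ex_even`  : `χ` of even degree, `Y` a Galois-stable set of 2-elements without zeros: the excess is at least `|Y|`;
* `ex_sing`  : `x` of order prime to `r`, `|G|_r = r ^ n ∤ d² - 1`: the excess over the `r`-singular elements is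
  at least `|G| / r ^ n`.
-/

set_option autoImplicit false

namespace Cfsg.Agent.H23.OZ

open Cfsg Cfsg.Agent.Characters Cfsg.Agent.H686.CharKit Finset
open Cfsg.Agent.H732.VZ Cfsg.Agent.H695.OneZero Cfsg.Agent.H733.OZ
open Cfsg.Agent.H30.OZ (Ex)
open scoped ComplexConjugate

universe u

/-! ### roots of unity -/

/-- The sum of the odd powers of a root of unity. -/
theorem sum_odd {z : ℂ} {h : ℕ} (hz : z ^ (2 * h) = 1) : ∑ j ∈ range h, z ^ (2 * j + 1)
    = h * (((if z = 1 then 1 else if z = -1 then -1 else 0 : ℤ)) : ℂ) := by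
  by_cases h1 : z = 1
  · subst h1
    simp
  by_cases h2 : z = -1
  · subst h2
    rw [if_neg h1, if_pos rfl]
    have h3 : ∀ j ∈ range h, (-1 : ℂ) ^ (2 * j + 1) = -1 := fun j _ => by
      rw [pow_succ, pow_mul]; simp only [_root_.even_two, _root_.Even.neg_pow, _root_.one_pow, _root_.mul_neg, _root_.mul_one]
    rw [sum_congr rfl h3]
    simp
  · rw [if_neg h1, if_neg h2, Int.cast_zero, mul_zero]
    have h3 : z ^ 2 - 1 ≠ 0 := by
      intro h4
      have h5 : (z - 1) * (z + 1) = 0 := by linear_combination h4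
      rcases mul_eq_zero.1 h5 with h6 | h6
      · exact h1 (sub_eq_zero.1 h6)
      · exact h2 (eq_neg_of_add_eq_zero_left h6)
    have h4 := geom_sum_mul (z ^ 2) h
    rw [← pow_mul, hz, sub_self] at h4
    have h5 : ∑ j ∈ range h, (z ^ 2) ^ j = 0 := (mul_eq_zero.1 h4).resolve_right h3
    have h6 : ∀ j ∈ range h, z ^ (2 * j + 1) = z * (z ^ 2) ^ j := fun j _ => by
      rw [pow_succ, pow_mul, mul_comm]
    rw [sum_congr rfl h6, ← mul_sum, h5, mul_zero]

/-- A symmetric sum. -/
theorem even_of_symm {ι : Type*} [Fintype ι] (c : ι → ι → ℤ) (h1 : ∀ i, c i i = 1)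
    (hs : ∀ i j, c i j = c j i) (hd : 2 ∣ Fintype.card ι) : (2 : ℤ) ∣ ∑ i, ∑ j, c i j := by
  classical
  have h2 : ((∑ i, ∑ j, c i j : ℤ) : ZMod 2) = 0 := by
    rw [← sum_product', Int.cast_sum, ← sum_filter_add_sum_filter_not _ (fun p : ι × ι => p.1 = p.2)]
    have h3 : ∑ p ∈ (univ ×ˢ univ : Finset (ι × ι)).filter (fun p : ι × ι => ¬ p.1 = p.2), ((c p.1 p.2 : ℤ) : ZMod 2)
        = 0 := by
      refine sum_involution (fun p _ => (p.2, p.1)) (fun p _ => ?_) (fun p hp _ h => ?_) (fun p hp => ?_) fun p _ => rfl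
      · rw [hs p.2 p.1]
        exact CharTwo.add_self_eq_zero _
      · rw [mem_filter] at hp
        exact hp.2 (congrArg Prod.snd h)
      · rw [mem_filter] at hp ⊢
        exact ⟨by simp only [_root_.Finset.univ_product_univ, _root_.Finset.mem_univ], fun h => hp.2 h.symm⟩
    have h4 : ∑ p ∈ (univ ×ˢ univ : Finset (ι × ι)).filter (fun p : ι × ι => p.1 = p.2), ((c p.1 p.2 : ℤ) : ZMod 2)
        = (Fintype.card ι : ZMod 2) := by
      have h5 : ∀ p ∈ (univ ×ˢ univ : Finset (ι × ι)).filter (fun p : ι × ι => p.1 = p.2),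
          ((c p.1 p.2 : ℤ) : ZMod 2) = 1 := fun p hp => by
        rw [mem_filter] at hp
        rw [hp.2, h1, Int.cast_one]
      rw [sum_congr rfl h5, sum_const, nsmul_eq_mul, mul_one]
      congr 1
      have h6 : (univ ×ˢ univ : Finset (ι × ι)).filter (fun p : ι × ι => p.1 = p.2) = (univ : Finset ι).diag := by
        ext p
        simp only [mem_diag, _root_.Finset.univ_product_univ, _root_.Finset.mem_filter, _root_.Finset.mem_univ, _root_.true_and]
      rw [h6, diag_card, card_univ]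
    rw [h3, h4, add_zero]
    exact (ZMod.natCast_eq_zero_iff _ _).2 hd
  exact (ZMod.intCast_zmod_eq_zero_iff_dvd _ 2).1 h2

variable {G : Type u} [Group G]

/-- **The mean of the odd powers.** -/
theorem even_sum {χ : G → ℂ} (hχ : IsCharacter G χ) {v : G} {h : ℕ} (hh : h ≠ 0) (hv : v ^ (2 * h) = 1) :
    ∃ (m : ℤ) (d : ℕ), χ 1 = d ∧ (2 ∣ d → (2 : ℤ) ∣ m) ∧
      ∑ j ∈ range h, Complex.normSq (χ (v ^ (2 * j + 1))) = h * (m : ℝ) := by
  classical
  obtain ⟨d, μ, hd, h1, h2⟩ := GaloisBasic.isCharacter_exists_fin_pow hχ v (n := 2 * h) (by omega) hv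
  have hc : ∀ i, μ i * conj (μ i) = 1 := fun i => by
    rw [Complex.mul_conj, Complex.normSq_eq_norm_sq, Complex.norm_eq_one_of_pow_eq_one (h1 i) (by omega)]
    simp
  set c : Fin d → Fin d → ℤ := fun i l => if μ i * conj (μ l) = 1 then 1 else if μ i * conj (μ l) = -1 then -1 else 0
    with hcdef
  refine ⟨∑ i, ∑ l, c i l, d, hd, fun h2d => ?_, ?_⟩
  · refine even_of_symm c (fun i => ?_) (fun i l => ?_) (by rwa [Fintype.card_fin])
    · simp only [hcdef]
      rw [if_pos (hc i)]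
    · simp only [hcdef]
      have h3 : μ l * conj (μ i) = conj (μ i * conj (μ l)) := by
        rw [map_mul, Complex.conj_conj, mul_comm]
      have h4 : μ l * conj (μ i) = 1 ↔ μ i * conj (μ l) = 1 := by
        rw [h3]
        exact ⟨fun h => by rw [← Complex.conj_conj (μ i * conj (μ l)), h, map_one], fun h => by rw [h, map_one]⟩
      have h5 : μ l * conj (μ i) = -1 ↔ μ i * conj (μ l) = -1 := by
        rw [h3]
        exact ⟨fun h => by rw [← Complex.conj_conj (μ i * conj (μ l)), h, map_neg, map_one],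
          fun h => by rw [h, map_neg, map_one]⟩
      simp only [h4, h5]
  · have h3 : ∀ k : ℕ, ((Complex.normSq (χ (v ^ k)) : ℝ) : ℂ) = ∑ i, ∑ l, (μ i * conj (μ l)) ^ k := by
      intro k
      rw [← Complex.mul_conj, h2 k, map_sum, sum_mul_sum]
      refine sum_congr rfl fun i _ => sum_congr rfl fun l _ => ?_
      rw [map_pow, mul_pow]
    have h4 : ((∑ j ∈ range h, Complex.normSq (χ (v ^ (2 * j + 1))) : ℝ) : ℂ)
        = ((h * ((∑ i, ∑ l, c i l : ℤ) : ℝ) : ℝ) : ℂ) := by
      push_cast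
      rw [sum_congr rfl fun j _ => h3 (2 * j + 1), sum_comm, mul_sum]
      refine sum_congr rfl fun i _ => ?_
      rw [sum_comm, mul_sum]
      refine sum_congr rfl fun l _ => ?_
      rw [sum_odd]
      rw [mul_pow, h1 i, one_mul, ← map_pow, h1 l, map_one]
    exact_mod_cast h4

/-! ### a lift of a residue -/

theorem exists_coprime_lift {a M N : ℕ} (hM : M ≠ 0) (hN : N ≠ 0) (ha : a.Coprime M) :
    ∃ k : ℕ, k.Coprime N ∧ k ≡ a [MOD M] := by
  have hMN : NeZero (M * N) := ⟨Nat.mul_ne_zero hM hN⟩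
  have hM' : NeZero M := ⟨hM⟩
  obtain ⟨w, hw⟩ := ZMod.unitsMap_surjective (n := M) (m := M * N) (Dvd.intro _ rfl) (ZMod.unitOfCoprime a ha)
  refine ⟨(w : ZMod (M * N)).val, (ZMod.val_coe_unit_coprime w).coprime_dvd_right (Dvd.intro_left _ rfl), ?_⟩
  rw [← ZMod.natCast_eq_natCast_iff]
  have h1 := congrArg (fun z : (ZMod M)ˣ => (z : ZMod M)) hw
  simp only [ZMod.coe_unitOfCoprime] at h1
  rw [← h1, ZMod.unitsMap_def, Units.coe_map]
  change (((w : ZMod (M * N)).val : ℕ) : ZMod M) = ZMod.castHom (Dvd.intro N rfl : M ∣ M * N) (ZMod M) (w : ZMod (M * N))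
  rw [ZMod.castHom_apply, ZMod.natCast_val]

variable [Fintype G]

/-- **Even degree**: the excess over a Galois-stable set of 2-elements without zeros. -/
theorem ex_even {χ : IrrCharacter G} {Y : Finset G} (hY : Gal Y) (h0 : ∀ g ∈ Y, (χ : G → ℂ) g ≠ 0) {e : ℕ}
    (he : ∀ g ∈ Y, g ^ 2 ^ (e + 1) = 1) (hd : 2 ∣ charDegree (χ : G → ℂ)) : Ex χ Y (Y.card / Nat.card G) := by
  classical
  refine ⟨hY, h0, ?_⟩
  have hG : (Nat.card G : ℝ) ≠ 0 := by exact_mod_cast Nat.card_pos.ne'
  rw [div_mul_cancel₀ _ hG]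
  have hpe : (0 : ℝ) < ((2 ^ e : ℕ) : ℝ) := by positivity
  -- every element
  have h1 : ∀ g ∈ Y, ((2 ^ e : ℕ) : ℝ) * 2 ≤ ∑ j ∈ range (2 ^ e), Complex.normSq ((χ : G → ℂ) (g ^ (2 * j + 1))) := by
    intro g hg
    obtain ⟨m, d, hm1, hm2, hm3⟩ := even_sum (Core.isIrr_isCharacter χ.2) (v := g) (h := 2 ^ e) (by positivity)
      (by rw [mul_comm, ← pow_succ]; exact he g hg)
    have h2 : d = charDegree (χ : G → ℂ) := by
      rw [← charDegree_irr χ] at hm1
      exact_mod_cast hm1.symm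
    have h3 := hm2 (by rw [h2]; exact hd)
    have h4 : 0 < ∑ j ∈ range (2 ^ e), Complex.normSq ((χ : G → ℂ) (g ^ (2 * j + 1))) := by
      refine sum_pos' (fun j _ => Complex.normSq_nonneg _) ⟨0, mem_range.2 (by positivity), ?_⟩
      rw [mul_zero, zero_add, pow_one]
      exact Complex.normSq_pos.2 (h0 g hg)
    rw [hm3] at h4 ⊢
    have h5 : (0 : ℝ) < m := by
      by_contra hcon
      rw [not_lt] at hcon
      nlinarith only [h4, hcon]
    have h6 : 0 < m := by exact_mod_cast h5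
    have h7 : 2 ≤ m := Int.le_of_dvd h6 h3
    have h8 : (2 : ℝ) ≤ m := by exact_mod_cast h7
    exact mul_le_mul_of_nonneg_left h8 hpe.le
  have h2 := sum_le_sum h1
  rw [sum_const, nsmul_eq_mul, sum_comm] at h2
  have h3 : ∀ j ∈ range (2 ^ e), ∑ g ∈ Y, Complex.normSq ((χ : G → ℂ) (g ^ (2 * j + 1)))
      = ∑ g ∈ Y, Complex.normSq ((χ : G → ℂ) g) := by
    intro j _
    obtain ⟨k, hk, hkj⟩ := exists_coprime_lift (a := 2 * j + 1) (M := 2 ^ (e + 1)) (N := Nat.card G) (by positivity)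
      Nat.card_pos.ne' (Nat.Coprime.pow_right _ ((Nat.coprime_two_right (n := 2 * j + 1)).2 ⟨j, rfl⟩))
    rw [← hY.sum_pow hk fun g => Complex.normSq ((χ : G → ℂ) g)]
    refine sum_congr rfl fun g hg => ?_
    rw [pow_eq_pow_of_modEq hkj (he g hg)]
  rw [sum_congr rfl h3, sum_const, nsmul_eq_mul, card_range] at h2
  have h4 : ((2 ^ e : ℕ) : ℝ) * ((Y.card : ℝ) + Y.card)
      ≤ ((2 ^ e : ℕ) : ℝ) * ∑ g ∈ Y, Complex.normSq ((χ : G → ℂ) g) := by
    refine le_trans (le_of_eq ?_) h2
    ring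
  exact le_of_mul_le_mul_left h4 hpe

omit [Fintype G] in
/-- All values at the `r`-singular elements of absolute value one: `r ^ n ∣ d² - 1`. -/
theorem pow_dvd_of [Finite G] (χ : IrrCharacter G) {r n : ℕ} (hr : r.Prime) (h1 : r ^ n ∣ Nat.card G)
    (h2 : ¬ r ^ (n + 1) ∣ Nat.card G) (hall : ∀ g : G, r ∣ orderOf g → Complex.normSq ((χ : G → ℂ) g) = 1) :
    r ^ n ∣ charDegree (χ : G → ℂ) ^ 2 - 1 := by
  classical
  have : Fact r.Prime := ⟨hr⟩
  obtain ⟨P⟩ : Nonempty (Sylow r G) := inferInstance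
  have hP : r ^ n ∣ Nat.card (P : Subgroup G) := P.pow_dvd_card_of_pow_dvd_card h1
  have hP' : Nat.card (P : Subgroup G) ∣ r ^ n := by
    obtain ⟨m, hm⟩ := IsPGroup.iff_card.1 P.2
    rw [hm]
    refine pow_dvd_pow r ?_
    by_contra hlt
    exact h2 ((pow_dvd_pow r (by omega : n + 1 ≤ m)).trans (hm ▸ Subgroup.card_subgroup_dvd_card _))
  have hPc : Nat.card (P : Subgroup G) = r ^ n := Nat.dvd_antisymm hP' hP
  have := Fintype.ofFinite (P : Subgroup G)
  have hres : IsCharacter (P : Subgroup G) (fun y : (P : Subgroup G) => (χ : G → ℂ) y) :=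
    Core.isCharacter_comp (P : Subgroup G).subtype (Core.isIrr_isCharacter χ.2)
  obtain ⟨m, hm⟩ := Core.classInner_isNat hres hres
  unfold classInner at hm
  have hPC : (Nat.card (P : Subgroup G) : ℂ) ≠ 0 := by exact_mod_cast Nat.card_pos.ne'
  have h3 : ∑ y : (P : Subgroup G), (χ : G → ℂ) y * (starRingEnd ℂ) ((χ : G → ℂ) y)
      = (Nat.card (P : Subgroup G) : ℂ) * m := by
    rw [← hm]
    field_simp
  have h4 : ∀ y : (P : Subgroup G), y ≠ 1 → (χ : G → ℂ) y * (starRingEnd ℂ) ((χ : G → ℂ) y) = 1 := by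
    intro y hy
    rw [Complex.mul_conj, hall, Complex.ofReal_one]
    obtain ⟨k, hk⟩ := IsPGroup.iff_orderOf.1 P.2 y
    have hk0 : k ≠ 0 := by
      rintro rfl
      rw [pow_zero, orderOf_eq_one_iff] at hk
      exact hy hk
    rw [Subgroup.orderOf_coe, hk]
    exact dvd_pow_self r hk0
  rw [← Finset.add_sum_erase _ _ (Finset.mem_univ (1 : (P : Subgroup G))),
    Finset.sum_congr rfl fun y hy => h4 y (Finset.ne_of_mem_erase hy), Finset.sum_const,
    nsmul_eq_mul, mul_one, Finset.card_erase_of_mem (Finset.mem_univ _), Finset.card_univ,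
    ← Nat.card_eq_fintype_card, hPc, OneMemClass.coe_one, ← charDegree_irr χ, Complex.conj_natCast] at h3
  have hd := charDegree_pos χ
  have hrn : 1 ≤ r ^ n := Nat.one_le_pow _ _ hr.pos
  have h5 : charDegree (χ : G → ℂ) * charDegree (χ : G → ℂ) + (r ^ n - 1) = r ^ n * m := by
    exact_mod_cast h3
  have h6 : 1 ≤ charDegree (χ : G → ℂ) ^ 2 := Nat.one_le_pow _ _ hd
  have h7 : charDegree (χ : G → ℂ) ^ 2 - 1 + r ^ n = r ^ n * m := by
    rw [← h5, sq] at *
    omega
  exact (Nat.dvd_add_left (dvd_refl _)).1 (h7 ▸ Dvd.intro _ rfl)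

/-- **The `r`-singular elements.** -/
theorem ex_sing {χ : IrrCharacter G} {x : G} (h : _root_.Cfsg.Agent.H732.VZ.One χ x) {r n : ℕ} (hr : r.Prime) (h1 : r ^ n ∣ Nat.card G)
    (h2 : ¬ r ^ (n + 1) ∣ Nat.card G) (hx : ¬ r ∣ orderOf x) (hd : ¬ r ^ n ∣ charDegree (χ : G → ℂ) ^ 2 - 1) :
    Ex χ (sing G r) (1 / (r : ℝ) ^ n) := by
  classical
  have hsing0 : ∀ g ∈ sing G r, (χ : G → ℂ) g ≠ 0 := by
    intro g hg h0
    rw [mem_sing, ← H604.OZ.orderOf_eq_of_conj (h.uniq g h0)] at hg
    exact hx hg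
  refine ⟨gal_sing r, hsing0, ?_⟩
  obtain ⟨k, hk⟩ := sum_reg_sub χ hr h1 h2
  have hNpos : (0 : ℝ) < Nat.card G := by exact_mod_cast Nat.card_pos
  have hrpos : (0 : ℝ) < (r : ℝ) ^ n := by
    have := hr.pos
    positivity
  have hcomp : (reg G r)ᶜ = sing G r := by
    ext g
    rw [Finset.mem_compl, mem_reg, mem_sing, not_not]
  have htot := H695.OneZero.sum_normSq χ
  rw [← Finset.sum_add_sum_compl (reg G r), hcomp] at htot
  have hcard : ((reg G r).card : ℝ) + (sing G r).card = Fintype.card G := by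
    rw [← Nat.cast_add, ← hcomp, Finset.card_add_card_compl]
  have hlow := H695.OneZero.card_le χ (gal_sing r) hsing0
  have hE : (r : ℝ) ^ n * (∑ g ∈ sing G r, Complex.normSq ((χ : G → ℂ) g) - (sing G r).card)
      = Nat.card G * ((-k : ℤ) : ℝ) := by
    push_cast
    rw [mul_neg, ← hk, ← mul_neg]
    congr 1
    linarith only [htot, hcard]
  have hk0 : 0 < -k := by
    by_contra hcon
    have hk1 : -k ≤ 0 := by omega
    have hk2 : ((-k : ℤ) : ℝ) ≤ 0 := by exact_mod_cast hk1
    have h3 : (r : ℝ) ^ n * (∑ g ∈ sing G r, Complex.normSq ((χ : G → ℂ) g) - (sing G r).card) ≤ 0 := by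
      rw [hE]
      exact mul_nonpos_of_nonneg_of_nonpos hNpos.le hk2
    have h4 : ∑ g ∈ sing G r, Complex.normSq ((χ : G → ℂ) g) ≤ (sing G r).card := by
      by_contra hlt
      rw [not_le] at hlt
      have := mul_pos hrpos (sub_pos.2 hlt)
      linarith
    exact hd (pow_dvd_of χ hr h1 h2 fun g hg =>
      normSq_eq_one_of_sum χ (gal_sing r) hsing0 h4 (mem_sing.2 hg))
  have hk3 : (1 : ℝ) ≤ ((-k : ℤ) : ℝ) := by exact_mod_cast hk0
  have h5 : (Nat.card G : ℝ) ≤ (r : ℝ) ^ n * (∑ g ∈ sing G r, Complex.normSq ((χ : G → ℂ) g) - (sing G r).card) := by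
    rw [hE]
    nlinarith only [hk3]
  have h6 : 1 / (r : ℝ) ^ n * Nat.card G ≤ ∑ g ∈ sing G r, Complex.normSq ((χ : G → ℂ) g) - (sing G r).card := by
    rw [one_div, ← div_eq_inv_mul, div_le_iff₀ hrpos, mul_comm]
    exact h5
  linarith only [h6]

end Cfsg.Agent.H23.OZ
end

-- part: H23/OZ/Sec
section
/-!
# One vanishing class: sections of `r`-elements (helper23, S4842)

`|G|_r = r ^ n`, `t ≡ 1 (mod r ^ n)`, `|G| / r ^ n ∣ t`: `g ^ t` is the `r`-part of `g`.  Let `P` be a set of
`r`-elements stable under conjugation and the powers prime to `|G|`.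
* `gen_sec` : `r ^ n` times the indicator function of `{g | P (g ^ t)}` is a generalized character;
* `ex_sec`  : if `χ` does not vanish on this set and not all values are of absolute value one, then the excess is at
  least `|G| / r ^ n`;
* `ex_sec_prime` : the section of the powers of an element `z` of order `r`, if `r ∤ d² - 1`.
-/

set_option autoImplicit false

namespace Cfsg.Agent.H23.OZ

open Cfsg Cfsg.Agent.Characters Cfsg.Agent.H686.CharKit Finset
open Cfsg.Agent.H732.VZ Cfsg.Agent.H695.OneZero Cfsg.Agent.H733.OZ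
open Cfsg.Agent.H30.OZ (Ex)
open scoped ComplexConjugate

universe u

/-- `r`-elements in the same coset of a normal `r`-complement are conjugate. -/
theorem conj_of_coset {E : Type*} [Group E] [Finite E] {r j : ℕ} (hr : r.Prime) (K : Subgroup E) [K.Normal]
    (hj : K.index = r ^ j) (hK : (Nat.card K).Coprime r) {x y : E} {a b : ℕ} (hx : x ^ r ^ a = 1)
    (hy : y ^ r ^ b = 1) (hxy : x⁻¹ * y ∈ K) : IsConj x y := by
  have : Fact r.Prime := ⟨hr⟩
  have hpz : ∀ (z : E) (m : ℕ), z ^ r ^ m = 1 → IsPGroup r (Subgroup.zpowers z) := by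
    rintro z m hz ⟨g, hg⟩
    obtain ⟨i, rfl⟩ := Subgroup.mem_zpowers_iff.1 hg
    refine ⟨m, Subtype.ext ?_⟩
    show (z ^ i) ^ (r ^ m) = 1
    rw [← zpow_natCast, ← zpow_mul, mul_comm, zpow_mul, zpow_natCast, hz, one_zpow]
  obtain ⟨P, hP⟩ := (hpz x a hx).exists_le_sylow
  obtain ⟨Q, hQ⟩ := (hpz y b hy).exists_le_sylow
  obtain ⟨g, hg⟩ := MulAction.exists_smul_eq E Q P
  have hxP : x ∈ (P : Subgroup E) := hP (Subgroup.mem_zpowers x)
  have hyQ : y ∈ (Q : Subgroup E) := hQ (Subgroup.mem_zpowers y)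
  have hy' : g * y * g⁻¹ ∈ (P : Subgroup E) := by
    rw [← hg, Sylow.coe_subgroup_smul]
    exact ⟨y, hyQ, by simp⟩
  -- the complement
  have hPK : Subgroup.IsComplement' K (P : Subgroup E) := by
    refine Subgroup.isComplement'_of_coprime ?_ ?_
    · have h1 : Nat.card K * r ^ j = Nat.card E := by rw [← hj]; exact K.card_mul_index
      obtain ⟨m, hm⟩ := IsPGroup.iff_card.1 P.2
      have h2 : r ^ j ∣ Nat.card (P : Subgroup E) := P.pow_dvd_card_of_pow_dvd_card ⟨Nat.card K, by rw [← h1, mul_comm]⟩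
      have h3 : Nat.card (P : Subgroup E) ∣ r ^ j := by
        have h4 : Nat.card (P : Subgroup E) ∣ Nat.card K * r ^ j := by rw [h1]; exact Subgroup.card_subgroup_dvd_card _
        refine Nat.Coprime.dvd_of_dvd_mul_left ?_ h4
        rw [hm]
        exact (hK.pow_right m).symm
      rw [Nat.dvd_antisymm h3 h2, h1]
    · obtain ⟨m, hm⟩ := IsPGroup.iff_card.1 P.2
      rw [hm]
      exact hK.pow_right m
  have hsup : K ⊔ (P : Subgroup E) = ⊤ := hPK.sup_eq_top
  have hinf : K ⊓ (P : Subgroup E) = ⊥ := hPK.disjoint.eq_bot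
  obtain ⟨k, hk, p, hp, hkp⟩ := (Subgroup.mem_sup_of_normal_left).1 (hsup ▸ Subgroup.mem_top g : g ∈ K ⊔ (P : Subgroup E))
  -- `y' = p⁻¹ (g y g⁻¹) p` is in `P` and in `x K`
  have h1 : p⁻¹ * (g * y * g⁻¹) * p ∈ (P : Subgroup E) :=
    (P : Subgroup E).mul_mem ((P : Subgroup E).mul_mem ((P : Subgroup E).inv_mem hp) hy') hp
  have h2 : x⁻¹ * (p⁻¹ * (g * y * g⁻¹) * p) ∈ K := by
    have hN : K.Normal := inferInstance
    have h3 : p⁻¹ * k * p ∈ K := by
      have := hN.conj_mem k hk p⁻¹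
      rwa [inv_inv] at this
    have h4 : y⁻¹ * (p⁻¹ * k * p) * y ∈ K := by
      have := hN.conj_mem _ h3 y⁻¹
      rwa [inv_inv] at this
    have h5 : p⁻¹ * (g * y * g⁻¹) * p = y * ((y⁻¹ * (p⁻¹ * k * p) * y) * (p⁻¹ * k * p)⁻¹) := by
      rw [← hkp]
      group
    rw [h5, ← mul_assoc]
    exact mul_mem hxy (mul_mem h4 (inv_mem h3))
  have h3 : x⁻¹ * (p⁻¹ * (g * y * g⁻¹) * p) = 1 := by
    have : x⁻¹ * (p⁻¹ * (g * y * g⁻¹) * p) ∈ K ⊓ (P : Subgroup E) := ⟨h2, (P : Subgroup E).mul_mem ((P : Subgroup E).inv_mem hxP) h1⟩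
    rwa [hinf, Subgroup.mem_bot] at this
  refine (isConj_iff.2 ⟨p⁻¹ * g, ?_⟩ : IsConj y x).symm
  rw [inv_mul_eq_one] at h3
  rw [h3]
  group

theorem isGen_comp {A B : Type*} [Group A] [Group B] (f : A →* B) {χ : B → ℂ} (h : IsGeneralizedCharacter B χ) :
    IsGeneralizedCharacter A (fun a => χ (f a)) := by
  obtain ⟨α, β, hα, hβ, rfl⟩ := h
  exact ⟨_, _, Core.isCharacter_comp f hα, Core.isCharacter_comp f hβ, rfl⟩

/-- The order of an `r`-group times a Galois-stable indicator function. -/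
theorem gen_ind {Q : Type*} [Group Q] [Finite Q] (N : ℕ) (hN : N ≠ 0) (P : Q → Prop) [DecidablePred P]
    (hc : ∀ a c : Q, P a → P (c * a * c⁻¹)) (hg : ∀ (a : Q) (k : ℕ), k.Coprime N → P a → P (a ^ k)) :
    IsGeneralizedCharacter Q (fun a => if P a then (Nat.card Q : ℂ) else 0) := by
  classical
  have := Fintype.ofFinite Q
  refine Brauer.isGeneralizedCharacter_of_int (fun g h => ?_) fun θ hθ => ?_
  · have h1 : P (h * g * h⁻¹) ↔ P g := by
      refine ⟨fun h1 => ?_, hc g h⟩
      have h2 := hc _ h⁻¹ h1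
      have h3 : h⁻¹ * (h * g * h⁻¹) * h⁻¹⁻¹ = g := by group
      rwa [h3] at h2
    simp only [h1]
  · have hθc := Core.isIrr_isCharacter hθ
    have h1 : classInner (fun a : Q => if P a then (Nat.card Q : ℂ) else 0) θ
        = ∑ a ∈ univ.filter (fun a : Q => P a), θ (a⁻¹) := by
      unfold classInner
      rw [sum_filter, mul_sum]
      refine sum_congr rfl fun a _ => ?_
      have hQ : (Nat.card Q : ℂ) ≠ 0 := by exact_mod_cast Nat.card_pos.ne'
      rw [Core.isCharacter_apply_inv hθc]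
      by_cases h : P a
      · simp only [if_pos h]
        rw [← mul_assoc, inv_mul_cancel₀ hQ, one_mul]
      · simp only [if_neg h]
        rw [zero_mul, mul_zero]
    rw [h1]
    obtain ⟨k, hk⟩ := H30.OZ.exists_int (z := ∑ a ∈ univ.filter (fun a : Q => P a), θ (a⁻¹))
      (IsIntegral.sum _ fun a _ => GaloisBasic.isIntegral_apply hθc _) (by
      intro σ
      obtain ⟨m, hm, hσ⟩ := GaloisBasic.exists_pow_of_ringEquiv (G := Q) σ
      obtain ⟨k, hk, hkm⟩ := exists_coprime_lift (a := m) (M := Nat.card Q) (N := N * Nat.card Q) Nat.card_pos.ne'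
        (Nat.mul_ne_zero hN Nat.card_pos.ne') hm
      have hkN : k.Coprime N := hk.coprime_dvd_right (Dvd.intro _ rfl)
      have hkQ : k.Coprime (Nat.card Q) := hk.coprime_dvd_right (Dvd.intro_left _ rfl)
      rw [map_sum]
      have h2 : ∀ a ∈ univ.filter (fun a : Q => P a), σ (θ a⁻¹) = θ ((a ^ k)⁻¹) := fun a _ => by
        rw [hσ θ hθc, ← inv_pow, ← pow_eq_pow_of_modEq hkm (pow_card_eq_one' (x := a⁻¹))]
      rw [sum_congr rfl h2]
      have hinj : Function.Injective fun g : Q => g ^ k := (powCoprime hkQ.symm).injective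
      have h3 : (univ.filter fun a : Q => P a).image (fun g : Q => g ^ k) = univ.filter fun a : Q => P a := by
        refine eq_of_subset_of_card_le (fun y hy => ?_) ?_
        · obtain ⟨g, hg', rfl⟩ := mem_image.1 hy
          rw [mem_filter] at hg' ⊢
          exact ⟨mem_univ _, hg g k hkN hg'.2⟩
        · rw [card_image_of_injective _ hinj]
      conv_rhs => rw [← h3]
      rw [sum_image fun a _ b _ hab => hinj hab])
    exact ⟨k, hk⟩

variable {G : Type u} [Group G]

/-- **The indicator function of a section.** -/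
theorem gen_sec [Finite G] {r n t : ℕ} (hr : r.Prime) (h1 : r ^ n ∣ Nat.card G)
    (h2 : ¬ r ^ (n + 1) ∣ Nat.card G) (ht1 : t ≡ 1 [MOD r ^ n]) (ht0 : Nat.card G ∣ t * r ^ n) (P : G → Prop)
    [DecidablePred P] (hc : ∀ a c : G, P a → P (c * a * c⁻¹))
    (hg : ∀ (a : G) (k : ℕ), k.Coprime (Nat.card G) → P a → P (a ^ k)) :
    IsGeneralizedCharacter G (fun g => if P (g ^ t) then ((r ^ n : ℕ) : ℂ) else 0) := by
  classical
  have hciff : ∀ a c : G, P (c * a * c⁻¹) ↔ P a := fun a c => by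
    refine ⟨fun h => ?_, hc a c⟩
    have h2 := hc _ c⁻¹ h
    have h3 : c⁻¹ * (c * a * c⁻¹) * c⁻¹⁻¹ = a := by group
    rwa [h3] at h2
  have hconj : ∀ a b : G, IsConj a b → (P a ↔ P b) := fun a b h => by
    obtain ⟨c, rfl⟩ := isConj_iff.1 h
    exact (hciff a c).symm
  refine Brauer.brauer_characterization _ (fun g h => ?_) fun E q hq hE => ?_
  · have h3 : P ((h * g * h⁻¹) ^ t) ↔ P (g ^ t) := by
      rw [conj_pow]
      exact hciff _ _
    simp only [h3]
  · obtain ⟨K, hKn, ⟨j, hj⟩, hK⟩ := S0961.exists_complement hr hq hE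
    have hjn : j ≤ n := by
      by_contra hlt
      apply h2
      refine (pow_dvd_pow r (by omega : n + 1 ≤ j)).trans ?_
      rw [← hj]
      exact K.index_dvd_card.trans E.card_subgroup_dvd_card
    -- the function on the quotient
    have hQc : Nat.card (E ⧸ K) = r ^ j := hj
    have htE : ∀ e : E, (e ^ t) ^ r ^ n = 1 := fun e => by
      rw [← pow_mul]
      obtain ⟨c, hc⟩ := (E.card_subgroup_dvd_card.trans ht0)
      rw [hc, pow_mul, pow_card_eq_one', one_pow]
    have htQ : ∀ e : E, ((e ^ t : E) : E ⧸ K) = (e : E ⧸ K) := fun e => by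
      rw [QuotientGroup.mk_pow]
      have h3 : (e : E ⧸ K) ^ r ^ n = 1 := by
        obtain ⟨i, rfl⟩ := Nat.exists_eq_add_of_le hjn
        rw [pow_add, pow_mul, ← hQc, pow_card_eq_one', one_pow]
      rw [pow_eq_pow_of_modEq ht1 h3, pow_one]
    have hcos : ∀ e e' : E, (e : E ⧸ K) = e' → (P ((e : G) ^ t) ↔ P ((e' : G) ^ t)) := by
      intro e e' hee
      have h3 : (e ^ t)⁻¹ * e' ^ t ∈ K := by
        rw [← QuotientGroup.eq, htQ, htQ, hee]
      obtain ⟨c, hc'⟩ := isConj_iff.1 (conj_of_coset hr K hj hK (htE e) (htE e') h3)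
      refine hconj _ _ (isConj_iff.2 ⟨(c : G), ?_⟩)
      have := congrArg (Subtype.val) hc'
      simpa only [_root_.Subgroup.coe_mul, _root_.SubmonoidClass.coe_pow, _root_.InvMemClass.coe_inv] using this
    let PQ : (E ⧸ K) → Prop := fun q => ∃ e : E, (e : E ⧸ K) = q ∧ P ((e : G) ^ t)
    have hPQ : ∀ e : E, PQ (e : E ⧸ K) ↔ P ((e : G) ^ t) := fun e => by
      refine ⟨?_, fun h => ⟨e, rfl, h⟩⟩
      rintro ⟨e', he', h⟩
      exact (hcos e' e he').1 h
    have hgen := gen_ind (Q := E ⧸ K) (Nat.card G) Nat.card_pos.ne' PQ (by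
      rintro a c ⟨e, rfl, h⟩
      obtain ⟨c, rfl⟩ := QuotientGroup.mk_surjective c
      refine ⟨c * e * c⁻¹, rfl, ?_⟩
      have h3 : ((c * e * c⁻¹ : E) : G) ^ t = (c : G) * (e : G) ^ t * (c : G)⁻¹ := by
        push_cast
        rw [conj_pow]
      rw [h3]
      exact hc _ _ h) (by
      rintro a k hk ⟨e, rfl, h⟩
      refine ⟨e ^ k, rfl, ?_⟩
      have h3 : ((e ^ k : E) : G) ^ t = ((e : G) ^ t) ^ k := by
        push_cast
        rw [← pow_mul, ← pow_mul, mul_comm]
      rw [h3]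
      exact hg _ k hk h)
    have h3 := isGen_comp (QuotientGroup.mk' K) hgen
    have h4 : IsGeneralizedCharacter E (fun _ : E => ((r ^ (n - j) : ℕ) : ℂ)) := by
      have h5 := Core.isCharacter_nsmul (r ^ (n - j)) (Core.isCharacter_one (G := E))
      refine Brauer.isGeneralizedCharacter_of_isCharacter ?_
      convert h5 using 1
      ext e
      simp
    have h5 := Brauer.isGeneralizedCharacter_mul h4 h3
    convert h5 using 1
    ext e
    simp only [Pi.mul_apply]
    have h6 : PQ (QuotientGroup.mk' K e) ↔ P ((e : G) ^ t) := hPQ e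
    by_cases h : P ((e : G) ^ t)
    · rw [if_pos h, if_pos (h6.2 h), hQc, ← Nat.cast_mul, ← pow_add, Nat.sub_add_cancel hjn]
    · rw [if_neg h, if_neg (fun h' => h (h6.1 h')), mul_zero]

variable [Fintype G]

/-- the section -/
noncomputable def sec (t : ℕ) (P : G → Prop) [DecidablePred P] : Finset G := univ.filter fun g => P (g ^ t)

theorem mem_sec {t : ℕ} {P : G → Prop} [DecidablePred P] {g : G} : g ∈ sec t P ↔ P (g ^ t) := by simp [sec]

theorem sum_sec {r n t : ℕ} (hr : r.Prime) (h1 : r ^ n ∣ Nat.card G)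
    (h2 : ¬ r ^ (n + 1) ∣ Nat.card G) (ht1 : t ≡ 1 [MOD r ^ n]) (ht0 : Nat.card G ∣ t * r ^ n) (P : G → Prop)
    [DecidablePred P] (hc : ∀ a c : G, P a → P (c * a * c⁻¹))
    (hg : ∀ (a : G) (k : ℕ), k.Coprime (Nat.card G) → P a → P (a ^ k)) (χ : IrrCharacter G) :
    ∃ k : ℤ, (r ^ n : ℝ) * ∑ g ∈ sec t P, Complex.normSq ((χ : G → ℂ) g) = Nat.card G * k := by
  classical
  have h3 := Brauer.isGeneralizedCharacter_mul (gen_sec hr h1 h2 ht1 ht0 P hc hg)
    (Brauer.isGeneralizedCharacter_of_isCharacter (Core.isIrr_isCharacter χ.2))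
  obtain ⟨a, b, ha, hb, hab⟩ := Core.isGeneralizedCharacter_def.1 h3
  obtain ⟨m1, hm1⟩ := Core.classInner_isNat ha (Core.isIrr_isCharacter χ.2)
  obtain ⟨m2, hm2⟩ := Core.classInner_isNat hb (Core.isIrr_isCharacter χ.2)
  have h4 : classInner ((fun g : G => if P (g ^ t) then ((r ^ n : ℕ) : ℂ) else 0) * (χ : G → ℂ)) (χ : G → ℂ)
      = (m1 : ℂ) - m2 := by
    rw [hab, Core.classInner_sub_left, hm1, hm2]
  unfold classInner at h4
  have hG : (Nat.card G : ℂ) ≠ 0 := by exact_mod_cast Nat.card_pos.ne'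
  have h5 : ∑ g : G, ((fun g : G => if P (g ^ t) then ((r ^ n : ℕ) : ℂ) else 0) * (χ : G → ℂ)) g
      * (starRingEnd ℂ) ((χ : G → ℂ) g) = (Nat.card G : ℂ) * ((m1 : ℂ) - m2) := by
    rw [← h4]
    field_simp
  refine ⟨(m1 : ℤ) - m2, ?_⟩
  have h6 : (((r ^ n : ℝ) * ∑ g ∈ sec t P, Complex.normSq ((χ : G → ℂ) g) : ℝ) : ℂ)
      = (((Nat.card G * (((m1 : ℤ) - m2 : ℤ) : ℝ)) : ℝ) : ℂ) := by
    push_cast
    rw [← h5, sec, Finset.sum_filter, Finset.mul_sum]
    refine Finset.sum_congr rfl fun g _ => ?_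
    rw [Pi.mul_apply]
    by_cases hg : P (g ^ t)
    · rw [if_pos hg, if_pos hg, mul_assoc, Complex.mul_conj]
      push_cast
      ring
    · rw [if_neg hg, if_neg hg, zero_mul, zero_mul, mul_zero]
  exact_mod_cast h6

theorem gal_sec (t : ℕ) (P : G → Prop) [DecidablePred P]
    (hg : ∀ (a : G) (k : ℕ), k.Coprime (Nat.card G) → P a → P (a ^ k)) : Gal (sec t P) := fun g hgs k hk => by
  rw [mem_sec] at hgs ⊢
  have h3 : (g ^ k) ^ t = (g ^ t) ^ k := by rw [← pow_mul, ← pow_mul, mul_comm]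
  rw [h3]
  exact hg _ k hk hgs

/-- **The excess over a section.** -/
theorem ex_sec {χ : IrrCharacter G} {r n t : ℕ} (hr : r.Prime) (h1 : r ^ n ∣ Nat.card G)
    (h2 : ¬ r ^ (n + 1) ∣ Nat.card G) (ht1 : t ≡ 1 [MOD r ^ n]) (ht0 : Nat.card G ∣ t * r ^ n) (P : G → Prop)
    [DecidablePred P] (hc : ∀ a c : G, P a → P (c * a * c⁻¹))
    (hg : ∀ (a : G) (k : ℕ), k.Coprime (Nat.card G) → P a → P (a ^ k))
    (h0 : ∀ g ∈ sec t P, (χ : G → ℂ) g ≠ 0) {z : G} (hz : z ∈ sec t P) (hz1 : Complex.normSq ((χ : G → ℂ) z) ≠ 1) :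
    Ex χ (sec t P) (1 / (r : ℝ) ^ n) := by
  classical
  refine ⟨gal_sec t P hg, h0, ?_⟩
  obtain ⟨k1, hk1⟩ := sum_sec hr h1 h2 ht1 ht0 P hc hg χ
  obtain ⟨k2, hk2⟩ := sum_sec hr h1 h2 ht1 ht0 P hc hg (⟨fun _ => 1, Core.isIrr_one⟩ : IrrCharacter G)
  have h3 : ∑ g ∈ sec t P, Complex.normSq (((⟨fun _ => 1, Core.isIrr_one⟩ : IrrCharacter G) : G → ℂ) g)
      = (sec t P).card := by
    rw [Finset.card_eq_sum_ones, Nat.cast_sum]
    exact Finset.sum_congr rfl fun g _ => by simp
  rw [h3] at hk2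
  have hNpos : (0 : ℝ) < Nat.card G := by exact_mod_cast Nat.card_pos
  have hrpos : (0 : ℝ) < (r : ℝ) ^ n := by
    have := hr.pos
    positivity
  have hE : (r : ℝ) ^ n * (∑ g ∈ sec t P, Complex.normSq ((χ : G → ℂ) g) - (sec t P).card)
      = Nat.card G * ((k1 - k2 : ℤ) : ℝ) := by
    push_cast
    rw [mul_sub, mul_sub, hk1, hk2]
  have hk0 : 0 < k1 - k2 := by
    by_contra hcon
    have hk1 : k1 - k2 ≤ 0 := by omega
    have hk2 : ((k1 - k2 : ℤ) : ℝ) ≤ 0 := by exact_mod_cast hk1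
    have h3 : (r : ℝ) ^ n * (∑ g ∈ sec t P, Complex.normSq ((χ : G → ℂ) g) - (sec t P).card) ≤ 0 := by
      rw [hE]
      exact mul_nonpos_of_nonneg_of_nonpos hNpos.le hk2
    have h4 : ∑ g ∈ sec t P, Complex.normSq ((χ : G → ℂ) g) ≤ (sec t P).card := by
      by_contra hlt
      rw [not_le] at hlt
      have := mul_pos hrpos (sub_pos.2 hlt)
      linarith
    exact hz1 (normSq_eq_one_of_sum χ (gal_sec t P hg) h0 h4 hz)
  have hk3 : (1 : ℝ) ≤ ((k1 - k2 : ℤ) : ℝ) := by exact_mod_cast hk0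
  have h5 : (Nat.card G : ℝ) ≤ (r : ℝ) ^ n * (∑ g ∈ sec t P, Complex.normSq ((χ : G → ℂ) g) - (sec t P).card) := by
    rw [hE]
    nlinarith only [hk3]
  have h6 : 1 / (r : ℝ) ^ n * Nat.card G ≤ ∑ g ∈ sec t P, Complex.normSq ((χ : G → ℂ) g) - (sec t P).card := by
    rw [one_div, ← div_eq_inv_mul, div_le_iff₀ hrpos, mul_comm]
    exact h5
  linarith only [h6]

omit [Fintype G] in
/-- A value of absolute value one at an `r`-element: `r ∣ d² - 1`. -/
theorem dvd_of_normSq_one [Finite G] (χ : IrrCharacter G) {r : ℕ} (hr : r.Prime) {z : G} {k : ℕ} (hz : z ^ r ^ k = 1)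
    (h : Complex.normSq ((χ : G → ℂ) z) = 1) : r ∣ charDegree (χ : G → ℂ) ^ 2 - 1 := by
  classical
  have := Fintype.ofFinite G
  obtain ⟨M, hM', hrM⟩ := CharactersDeep.BrauerLocal.exists_maximal r hr
  have hM : M.IsPrime := hM'.isPrime
  have h1 := H30.OZ.av_sub_mem hr hM hrM χ hz
  have h2 := H30.OZ.av_sub_mem hr hM hrM χ (y := z⁻¹) (k := k) (by rw [inv_pow, hz, inv_one])
  have h3 : av χ z * av χ z⁻¹ = 1 := by
    apply Subtype.ext
    change (χ : G → ℂ) z * (χ : G → ℂ) z⁻¹ = 1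
    rw [Core.isCharacter_apply_inv (Core.isIrr_isCharacter χ.2), Complex.mul_conj, h, Complex.ofReal_one]
  have h4 : av χ 1 = (charDegree (χ : G → ℂ) : AlgInt) := by
    apply Subtype.ext
    have h5 : (χ : G → ℂ) 1 = (charDegree (χ : G → ℂ) : ℂ) := (charDegree_irr χ).symm
    simpa only [_root_.Cfsg.Agent.H732.VZ.av_coe, _root_.SubringClass.coe_natCast] using h5
  have h5 : av χ z * av χ z⁻¹ - av χ 1 * av χ 1 ∈ M := by
    have h6 : av χ z * av χ z⁻¹ - av χ 1 * av χ 1 = (av χ z - av χ 1) * av χ z⁻¹ + av χ 1 * (av χ z⁻¹ - av χ 1) := by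
      ring
    rw [h6]
    exact M.add_mem (M.mul_mem_right _ h1) (M.mul_mem_left _ h2)
  rw [h3, h4] at h5
  have h6 : (((1 - (charDegree (χ : G → ℂ) : ℤ) * charDegree (χ : G → ℂ) : ℤ)) : AlgInt) ∈ M := by
    push_cast
    exact h5
  have h7 := (int_mem_iff hr hM hrM _).1 h6
  have hd := charDegree_pos χ
  have h8 : ((charDegree (χ : G → ℂ) ^ 2 - 1 : ℕ) : ℤ) = -(1 - (charDegree (χ : G → ℂ) : ℤ) * charDegree (χ : G → ℂ)) := by
    rw [Nat.cast_sub (Nat.one_le_pow _ _ hd)]
    push_cast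
    ring
  have h9 : (r : ℤ) ∣ ((charDegree (χ : G → ℂ) ^ 2 - 1 : ℕ) : ℤ) := by
    rw [h8]
    exact (dvd_neg).2 h7
  exact_mod_cast h9

end Cfsg.Agent.H23.OZ
end

-- part: H23/OZ/FourTwo
section
/-!
# S4842: the row `F₄(2)` (helper23)

Let `χ` of degree `d` vanish exactly on the class of `x`, `c = |C(x)|`.  The sieve leaves 51 degrees.
* `13 ∣ d`: `x` has order 13 and `c = 13`.  An even degree has the values of the 2-elements with mean of `|χ|²`
  at least two (`ex_even`), and there are `2 ^ 48` of them (Steinberg).  The odd degrees are 273 (less than 448), 1053 and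
  36855: the excess of the 5-singular elements and of two sections of elements of order 7 is too large.
* `13 ∤ d`: ten even degrees.  `x` a 2-element: `c ≥ 16`; otherwise `c ≤ 7`, and the small centralizers are impossible.
-/

set_option autoImplicit false
set_option maxRecDepth 100000

namespace Cfsg.Agent.H23.OZ.F42

/-- transport to the model over `ZMod 2` -/
theorem exists_equiv {F : Type*} [Field F] [Fintype F] (hF : Fintype.card F = 2) :
    Nonempty (↥(Cfsg.Lie.chevF4.group F) ≃* Cfsg.Agent.FourTwo.Base.LL) := by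
  have h3 : Fintype.card (ZMod 2) = Fintype.card F := by rw [hF, ZMod.card]
  have φ : ZMod 2 ≃+* F := FiniteField.ringEquivOfCardEq h3
  exact ⟨(ChevalleyStructure.FieldIso.groupEquiv Cfsg.Lie.chevF4 φ).symm⟩

open Cfsg Cfsg.Lie Cfsg.Agent.Characters Cfsg.Agent.H686.CharKit Cfsg.Agent.FourTwo.Base Cfsg.Agent.FourTwo.Classes
open Cfsg.Agent.H732.VZ Cfsg.Agent.H695.OneZero Cfsg.Agent.H733.OZ Cfsg.Agent.H604.OZ
open Cfsg.Agent.H30.OZ (Ex)

universe u

/-! ### Elements of order three in a finite group -/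

theorem nine_dvd_elt {G : Type*} [Group G] [Finite G] (h9 : 9 ∣ Nat.card G) {x : G} (hx : orderOf x = 3) :
    9 ∣ Nat.card (Subgroup.centralizer ({x} : Set G)) := by
  have hF : Fact (Nat.Prime 3) := ⟨Nat.prime_three⟩
  have hP : IsPGroup 3 (Subgroup.zpowers x) := IsPGroup.of_card (n := 1) (by rw [Nat.card_zpowers, hx, pow_one])
  obtain ⟨P, hPx⟩ := hP.exists_le_sylow
  have hxP : x ∈ (P : Subgroup G) := hPx (Subgroup.mem_zpowers x)
  have hx1 : x ≠ 1 := by
    rintro rfl
    rw [orderOf_one] at hx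
    norm_num at hx
  have hnt : Nontrivial (P : Subgroup G) := ⟨⟨⟨x, hxP⟩, 1, fun h => hx1 (congrArg Subtype.val h)⟩⟩
  have hZ := P.2.center_nontrivial
  have hZp : IsPGroup 3 (Subgroup.center (P : Subgroup G)) := P.2.to_subgroup _
  have h3 : 3 ∣ Nat.card (Subgroup.center (P : Subgroup G)) := by
    obtain ⟨m, hm⟩ := IsPGroup.iff_card.1 hZp
    rw [hm]
    refine dvd_pow_self 3 ?_
    rintro rfl
    rw [pow_zero] at hm
    have := Finite.one_lt_card_iff_nontrivial.2 hZ
    omega
  obtain ⟨z, hz⟩ := exists_prime_orderOf_dvd_card' 3 h3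
  have hz' : orderOf ((z : (P : Subgroup G)) : G) = 3 := by rw [Subgroup.orderOf_coe, Subgroup.orderOf_coe, hz]
  have hzc : ∀ g ∈ (P : Subgroup G), g * ((z : (P : Subgroup G)) : G) = ((z : (P : Subgroup G)) : G) * g := fun g hg =>
    congrArg Subtype.val (Subgroup.mem_center_iff.1 z.2 ⟨g, hg⟩)
  have hxm : x ∈ Subgroup.centralizer ({x} : Set G) := Subgroup.mem_centralizer_singleton_iff.2 rfl
  have hzm : ((z : (P : Subgroup G)) : G) ∈ Subgroup.centralizer ({x} : Set G) :=
    Subgroup.mem_centralizer_singleton_iff.2 (hzc x hxP).symm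
  by_cases hmem : x ∈ Subgroup.zpowers ((z : (P : Subgroup G)) : G)
  · have hle : (P : Subgroup G) ≤ Subgroup.centralizer ({x} : Set G) := by
      intro g hg
      rw [Subgroup.mem_centralizer_singleton_iff]
      obtain ⟨k, hk⟩ := Subgroup.mem_zpowers_iff.1 hmem
      have h1 : Commute g ((z : (P : Subgroup G)) : G) := hzc g hg
      rw [← hk]
      exact h1.zpow_right k
    exact (P.pow_dvd_card_of_pow_dvd_card (n := 2) (by norm_num; exact h9)).trans (Subgroup.card_dvd_of_le hle)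
  · refine nine_dvd_of (a := (⟨_, hzm⟩ : Subgroup.centralizer ({x} : Set G))) (b := ⟨x, hxm⟩)
      ((Subgroup.orderOf_coe _).symm.trans hz') ((Subgroup.orderOf_coe _).symm.trans hx)
      (Subtype.ext (hzc x hxP).symm) fun hm => ?_
    obtain ⟨i, hi⟩ := Subgroup.mem_zpowers_iff.1 hm
    exact hmem (Subgroup.mem_zpowers_iff.2 ⟨i, congrArg Subtype.val hi⟩)

/-- the centralizer of an element of order six -/
theorem nine_dvd_six {G : Type*} [Group G] [Finite G]
    (h : ∀ t : G, orderOf t = 2 → 9 ∣ Nat.card (Subgroup.centralizer ({t} : Set G))) {x : G} (hx : orderOf x = 6) :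
    9 ∣ Nat.card (Subgroup.centralizer ({x} : Set G)) := by
  have h2 : orderOf (x ^ 3) = 2 := by rw [orderOf_pow_of_dvd (by norm_num) (by rw [hx]; norm_num), hx]
  have h3 : orderOf (x ^ 2) = 3 := by rw [orderOf_pow_of_dvd (by norm_num) (by rw [hx]; norm_num), hx]
  have hm : x ^ 2 ∈ Subgroup.centralizer ({x ^ 3} : Set G) := by
    rw [Subgroup.mem_centralizer_singleton_iff, ← pow_add, ← pow_add]
  have h4 := nine_dvd_elt (h _ h2) (x := (⟨x ^ 2, hm⟩ : Subgroup.centralizer ({x ^ 3} : Set G)))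
    ((Subgroup.orderOf_coe _).symm.trans h3)
  refine h4.trans ?_
  let f : Subgroup.centralizer ({(⟨x ^ 2, hm⟩ : Subgroup.centralizer ({x ^ 3} : Set G))} :
      Set (Subgroup.centralizer ({x ^ 3} : Set G))) →* Subgroup.centralizer ({x} : Set G) :=
    { toFun := fun c => ⟨((c : Subgroup.centralizer ({x ^ 3} : Set G)) : G), by
        have h5 : ((c : Subgroup.centralizer ({x ^ 3} : Set G)) : G) * x ^ 2
            = x ^ 2 * ((c : Subgroup.centralizer ({x ^ 3} : Set G)) : G) :=
          congrArg Subtype.val (Subgroup.mem_centralizer_singleton_iff.1 c.2)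
        have h6 := Subgroup.mem_centralizer_singleton_iff.1 (c : Subgroup.centralizer ({x ^ 3} : Set G)).2
        rw [Subgroup.mem_centralizer_singleton_iff]
        set g := ((c : Subgroup.centralizer ({x ^ 3} : Set G)) : G)
        have h7 : Commute g (x ^ 2) := h5
        have h8 : Commute g (x ^ 3) := h6
        have h9 : Commute g ((x ^ 2)⁻¹ * x ^ 3) := h7.inv_right.mul_right h8
        have h10 : (x ^ 2)⁻¹ * x ^ 3 = x := by
          rw [pow_succ x 2, inv_mul_cancel_left]
        rw [h10] at h9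
        exact h9⟩
      map_one' := rfl
      map_mul' := fun _ _ => rfl }
  refine Subgroup.card_dvd_of_injective f fun a b hab => ?_
  have h5 := congrArg (fun z : Subgroup.centralizer ({x} : Set G) => (z : G)) hab
  exact Subtype.ext (Subtype.ext h5)

/-! ### The numbers -/

theorem cardN : Nat.card LL = 3311126603366400 := by rw [card_LL]; norm_num

theorem simple_LL : IsSimpleGroup LL := (Cfsg.Agent.S1054.result chevF4 (by simp)).1

/-- **Steinberg's count.** -/
theorem card_two : Nat.card {g : LL // ∃ k : ℕ, orderOf g = 2 ^ k} = 2 ^ 48 := by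
  have : Fact (Nat.Prime 2) := ⟨Nat.prime_two⟩
  have h := Cfsg.Agent.H115.card_pel_of_hasRGD' (Cfsg.Agent.Nodes.RGDChev.hasRGD_F4 (ZMod 2) 2)
    (a := 24) (m := (2 ^ 2 - 1) * (2 ^ 6 - 1) * (2 ^ 8 - 1) * (2 ^ 12 - 1)) card_LL (by norm_num)
  rw [h, ← pow_mul]

variable {χ : IrrCharacter LL} {x : LL}

theorem four_le (h : _root_.Cfsg.Agent.H732.VZ.One χ x) : 4 ≤ cent x :=
  four_le_cent h (by rw [cardN]; norm_num) (by rw [cardN]; norm_num)

theorem hiso (h : _root_.Cfsg.Agent.H732.VZ.One χ x) : ∀ r ∈ [13, 17], charDegree (χ : LL → ℂ) % r = 0 ∨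
    charDegree (χ : LL → ℂ) % r = 1 ∨ charDegree (χ : LL → ℂ) % r = r - 1 := by
  have := simple_LL
  intro r hr
  simp only [List.mem_cons, List.not_mem_nil, or_false] at hr
  rcases hr with rfl | rfl
  · exact H672.OZ.iso_mod h (by norm_num) (by norm_num) (by rw [cardN]; norm_num) (by rw [cardN]; norm_num)
      (by rw [cardN]; norm_num) (fun y hy => cent13 hy) (four_le h)
  · exact H672.OZ.iso_mod h (by norm_num) (by norm_num) (by rw [cardN]; norm_num) (by rw [cardN]; norm_num)
      (by rw [cardN]; norm_num) (fun y hy => cent17 hy) (four_le h)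

/-- the degrees divisible by 26 -/
def DA : List ℕ := [52, 390, 832, 936, 1820, 4368, 4914, 6240, 7020, 13312, 14976, 16848, 29120, 32760, 69888, 78624,
  88452, 99840, 112320, 126360, 212992, 239616, 269568, 465920, 524160, 589680, 1118208, 1257984, 1415232, 1597440,
  1797120, 2021760, 3407872, 3833856, 4313088, 7454720, 8386560, 9434880]

/-- the degrees not divisible by 13 -/
def DB : List ℕ := [324, 560, 2430, 4096, 24192, 30720, 181440, 1327104, 2293760, 9953280]

/-- **The sieve.** -/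
theorem mem_deg (h : _root_.Cfsg.Agent.H732.VZ.One χ x) : charDegree (χ : LL → ℂ) ∈ [273, 1053, 36855] ++ DA ++ DB :=
  H672.OZ.mem_of_sieve h cardN (l := [(2, 24), (3, 6), (5, 2), (7, 2), (13, 1), (17, 1)]) (by decide +kernel)
    (by
      intro y hy
      simp only [List.mem_cons, List.not_mem_nil, or_false] at hy
      rcases hy with rfl | rfl | rfl | rfl | rfl | rfl <;> norm_num)
    (by decide +kernel) (four_le h) (hiso h) (_root_.Cfsg.Agent.H672.OZ.LowExp.all_of (by decide +kernel))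

theorem DA_ok : ∀ d ∈ DA, d % 2 = 0 ∧ d % 13 = 0 := by decide

theorem DB_ok : ∀ d ∈ DB, 448 ≤ d → d % 2 = 0 ∧ (d ^ 2 - 1) % 25 ≠ 0 ∧ (d ^ 2 - 1) % 49 ≠ 0 := by decide +kernel

theorem deg_ge (h : _root_.Cfsg.Agent.H732.VZ.One χ x) : 448 ≤ charDegree (χ : LL → ℂ) :=
  Cfsg.Agent.H363.Cyc.F4TwoDeg.md_LL χ (one_lt_deg h).ne'

/-! ### The 2-elements -/

section Two

variable [Fintype LL] [DecidableEq LL]

open Finset

/-- a 2-element -/
def Is2 (g : LL) : Prop := ∃ k : ℕ, orderOf g = 2 ^ k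

open Classical in
/-- the 2-elements at which `χ` does not vanish -/
noncomputable def Y2 (χ : IrrCharacter LL) : Finset LL := univ.filter fun g => Is2 g ∧ (χ : LL → ℂ) g ≠ 0

omit [DecidableEq LL] in
theorem mem_Y2 {g : LL} : g ∈ Y2 χ ↔ Is2 g ∧ (χ : LL → ℂ) g ≠ 0 := by
  simp only [Y2, _root_.ne_eq, _root_.Finset.mem_filter, _root_.Finset.mem_univ, _root_.true_and]

theorem gal_Y2 (χ : IrrCharacter LL) : Gal (Y2 χ) := by
  classical
  intro g hg k hk
  rw [mem_Y2] at hg ⊢
  refine ⟨?_, ?_⟩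
  · obtain ⟨m, hm⟩ := hg.1
    exact ⟨m, by rw [orderOf_pow_of_coprime hk, hm]⟩
  · have h1 := (gal_zero χ).compl g (by
      rw [mem_compl, mem_filter]
      exact fun h => hg.2 h.2) k hk
    rw [mem_compl, mem_filter] at h1
    exact fun h => h1 ⟨mem_univ _, h⟩

theorem ex_Y2 (hd : 2 ∣ charDegree (χ : LL → ℂ)) : Ex χ (Y2 χ) ((Y2 χ).card / Nat.card LL) := by
  refine ex_even (gal_Y2 χ) (fun g hg => (mem_Y2.1 hg).2) (e := 23) (fun g hg => ?_) hd
  obtain ⟨k, hk⟩ := (mem_Y2.1 hg).1
  have h2 : orderOf g ∣ 2 ^ 24 * ((2 ^ 2 - 1) * (2 ^ 6 - 1) * (2 ^ 8 - 1) * (2 ^ 12 - 1)) := by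
    rw [← card_LL]; exact orderOf_dvd_natCard g
  have h3 : orderOf g ∣ 2 ^ 24 := by
    refine Nat.Coprime.dvd_of_dvd_mul_right ?_ h2
    rw [hk]
    exact Nat.Coprime.pow_left _ (by norm_num)
  exact orderOf_dvd_iff_pow_eq_one.1 h3

omit [Fintype LL] [DecidableEq LL] in
theorem is2_of_conj {g g' : LL} (h : IsConj g g') (hg : Is2 g) : Is2 g' := by
  obtain ⟨k, hk⟩ := hg
  exact ⟨k, by rw [← orderOf_eq_of_conj h, hk]⟩

open Classical in
omit [DecidableEq LL] in
theorem card_is2 : (univ.filter fun g : LL => Is2 g).card = 2 ^ 48 := by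
  rw [← card_two, ← Fintype.card_subtype, ← Nat.card_eq_fintype_card]
  rfl

omit [DecidableEq LL] in
/-- `x` not a 2-element -/
theorem card_Y2 (h : _root_.Cfsg.Agent.H732.VZ.One χ x) (hx : ¬ Is2 x) : (Y2 χ).card = 2 ^ 48 := by
  classical
  rw [← card_is2]
  congr 1
  ext g
  rw [mem_Y2, mem_filter]
  refine ⟨fun h1 => ⟨mem_univ _, h1.1⟩, fun h1 => ⟨h1.2, fun h0 => hx (is2_of_conj (h.uniq g h0).symm h1.2)⟩⟩

omit [DecidableEq LL] in
/-- `x` a 2-element -/
theorem card_Y2' (h : _root_.Cfsg.Agent.H732.VZ.One χ x) : ((2 ^ 48 : ℕ) : ℝ) * cent x ≤ (Y2 χ).card * cent x + Nat.card LL := by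
  classical
  have h1 := card_zeros h
  have h2 : 2 ^ 48 ≤ (Y2 χ).card + (univ.filter fun g : LL => (χ : LL → ℂ) g = 0).card := by
    rw [← card_is2]
    refine (card_le_card (fun g hg => ?_)).trans (card_union_le _ _)
    rw [mem_filter] at hg
    rw [mem_union, mem_Y2, mem_filter]
    by_cases h0 : (χ : LL → ℂ) g = 0
    · exact Or.inr ⟨mem_univ _, h0⟩
    · exact Or.inl ⟨hg.2, h0⟩
  have h3 : 2 ^ 48 * cent x ≤ (Y2 χ).card * cent x + Nat.card LL := by
    rw [← h1]
    have h4 := Nat.mul_le_mul_right (cent x) h2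
    rw [add_mul] at h4
    exact h4
  exact_mod_cast h3

/-- **The inequality for an even degree.** -/
theorem ineq (h : _root_.Cfsg.Agent.H732.VZ.One χ x) (hd : 2 ∣ charDegree (χ : LL → ℂ)) {Y' : Finset LL} {t : ℝ} (hY' : Ex χ Y' t)
    (hdis : ∀ g ∈ Y', ¬ Is2 g) :
    (cent x : ℝ) * (281474976710656 / 3311126603366400 + t) ≤ 2 ∧
      (¬ Is2 x → (cent x : ℝ) * (281474976710656 / 3311126603366400 + t) ≤ 1) := by
  have hdj : Disjoint (Y2 χ) Y' := Finset.disjoint_left.2 fun g hg hg' => hdis g hg' (mem_Y2.1 hg).1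
  have h1 := ((ex_Y2 hd).union hY' hdj).cent_le h
  have h1' : (cent x : ℝ) * (((Y2 χ).card : ℝ) / Nat.card LL + t) ≤ 1 := h1
  rw [cardN] at h1'
  constructor
  · have h2 := card_Y2' h
    rw [cardN] at h2
    push_cast at h1' h2
    have h3 : (cent x : ℝ) * (281474976710656 / 3311126603366400 + t) =
        (281474976710656 * cent x) / 3311126603366400 + cent x * t := by ring
    have h4 : (cent x : ℝ) * ((Y2 χ).card / 3311126603366400 + t) =
        ((Y2 χ).card * cent x) / 3311126603366400 + cent x * t := by ring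
    rw [h3]
    rw [h4] at h1'
    have h5 : (281474976710656 * (cent x : ℝ)) / 3311126603366400 ≤
        (((Y2 χ).card : ℝ) * cent x + 3311126603366400) / 3311126603366400 := by
      refine div_le_div_of_nonneg_right ?_ (by norm_num)
      exact h2
    rw [add_div, div_self (by norm_num)] at h5
    linarith only [h1', h2]
  · intro hx
    rw [card_Y2 h hx] at h1'
    push_cast at h1'
    exact h1'

end Two

/-! ### Sections of elements of order seven -/

/-- conjugate to a nontrivial power -/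
def PP (z a : LL) : Prop := ∃ k : ℕ, ¬ 7 ∣ k ∧ IsConj (z ^ k) a

/-- the exponent of the 7-part -/
def tt : ℕ := 270296049254400

theorem tt_mod : tt ≡ 1 [MOD 7 ^ 2] := by decide

theorem tt_dvd : Nat.card LL ∣ tt * 7 ^ 2 := by rw [cardN]; unfold tt; decide

theorem ord_PP {z a : LL} (hz : orderOf z = 7) (h : PP z a) : orderOf a = 7 := by
  obtain ⟨k, hk, hc⟩ := h
  rw [← orderOf_eq_of_conj hc, Nat.Coprime.orderOf_pow, hz]
  rw [hz]
  exact (Nat.Prime.coprime_iff_not_dvd (by norm_num)).2 hk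

theorem seven_dvd {z g : LL} (hz : orderOf z = 7) (h : PP z (g ^ tt)) : 7 ∣ orderOf g := by
  rw [← ord_PP hz h]
  exact orderOf_pow_dvd _

/-- **The excess of a section.** -/
theorem ex_PP [Fintype LL] (h : _root_.Cfsg.Agent.H732.VZ.One χ x) (hx : orderOf x = 13) (hd : ¬ 7 ∣ charDegree (χ : LL → ℂ) ^ 2 - 1) {z : LL}
    (hz : orderOf z = 7) [DecidablePred (PP z)] : Ex χ (sec tt (PP z)) (1 / ((7 : ℕ) : ℝ) ^ 2) := by
  have hN : Nat.card LL = 3311126603366400 := cardN
  refine ex_sec (r := 7) (n := 2) (t := tt) (by norm_num) (by rw [hN]; norm_num) (by rw [hN]; norm_num) tt_mod tt_dvd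
    (PP z) ?_ ?_ ?_ (z := z) ?_ ?_
  · rintro a c ⟨k, hk, hc⟩
    exact ⟨k, hk, hc.trans (isConj_iff.2 ⟨c, rfl⟩)⟩
  · rintro a m hm ⟨k, hk, hc⟩
    refine ⟨k * m, ?_, ?_⟩
    · intro hd
      rcases (Nat.Prime.dvd_mul (by norm_num : Nat.Prime 7)).1 hd with h1 | h1
      · exact hk h1
      · have h2 : 7 ∣ Nat.card LL := by rw [hN]; norm_num
        have h3 := Nat.dvd_gcd h1 h2
        rw [hm] at h3
        norm_num at h3
    · rw [pow_mul]
      exact Cfsg.Agent.H30.OZ.isConj_pow hc m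
  · intro g hg h0
    have h1 := seven_dvd hz (mem_sec.1 hg)
    rw [← orderOf_eq_of_conj (h.uniq g h0), hx] at h1
    norm_num at h1
  · rw [mem_sec]
    exact ⟨tt, by decide, IsConj.refl _⟩
  · intro h1
    exact hd (dvd_of_normSq_one χ (by norm_num) (z := z) (k := 1) (by rw [pow_one, ← hz, pow_orderOf_eq_one]) h1)

/-! ### The row -/

theorem not_odd (h : _root_.Cfsg.Agent.H732.VZ.One χ x) (hd : charDegree (χ : LL → ℂ) = 1053 ∨ charDegree (χ : LL → ℂ) = 36855) : False := by
  classical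
  have := Fintype.ofFinite LL
  have hN : Nat.card LL = 3311126603366400 := cardN
  obtain ⟨hx, hc, -⟩ := H672.OZ.full h (r := 13) (n := 1) (by norm_num) (by norm_num) (by rw [hN]; norm_num)
    (by rw [hN]; norm_num) (by rcases hd with hd | hd <;> rw [hd] <;> norm_num)
  have h7 : ¬ 7 ∣ charDegree (χ : LL → ℂ) ^ 2 - 1 := by rcases hd with hd | hd <;> rw [hd] <;> norm_num
  have E1 := ex_sing h (r := 5) (n := 2) (by norm_num) (by rw [hN]; norm_num) (by rw [hN]; norm_num)
    (by rw [hx]; norm_num) (by rcases hd with hd | hd <;> rw [hd] <;> norm_num)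
  have E2 := ex_PP h hx h7 ordA
  have E3 := ex_PP h hx h7 ordB
  have d12 : Disjoint (sing LL 5) (sec tt (PP (wd wA))) := Finset.disjoint_left.2 fun g h1 h2 =>
    no35 g ⟨mem_sing.1 h1, seven_dvd ordA (mem_sec.1 h2)⟩
  have d3 : Disjoint (sing LL 5 ∪ sec tt (PP (wd wA))) (sec tt (PP (wd wB))) := by
    refine Finset.disjoint_left.2 fun g h1 h2 => ?_
    rcases Finset.mem_union.1 h1 with h1 | h1
    · exact no35 g ⟨mem_sing.1 h1, seven_dvd ordB (mem_sec.1 h2)⟩
    · obtain ⟨k, hk, hkc⟩ := mem_sec.1 h1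
      obtain ⟨m, hm, hmc⟩ := mem_sec.1 h2
      have hk7 : k.Coprime 7 := ((Nat.Prime.coprime_iff_not_dvd (by norm_num)).2 hk).symm
      obtain ⟨l, hl⟩ : ∃ l : ℕ, (wd wA ^ k) ^ l = wd wA := exists_pow_eq_self_of_coprime (by rw [ordA]; exact hk7)
      have h3 := Cfsg.Agent.H30.OZ.isConj_pow (hkc.trans hmc.symm) l
      rw [hl, ← pow_mul] at h3
      exact not_conj _ h3
  have h1 := ((E1.union E2 d12).union E3 d3).cent_le h
  have h2 : ((13 : ℕ) : ℝ) * (1 / ((5 : ℕ) : ℝ) ^ 2 + 1 / ((7 : ℕ) : ℝ) ^ 2 + 1 / ((7 : ℕ) : ℝ) ^ 2) ≤ 1 := by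
    have h3 : (cent x : ℝ) = ((13 : ℕ) : ℝ) := by rw [hc, pow_one]
    rw [← h3]
    exact h1
  norm_num at h2

theorem not_even13 (h : _root_.Cfsg.Agent.H732.VZ.One χ x) (h2 : 2 ∣ charDegree (χ : LL → ℂ)) (h13 : 13 ∣ charDegree (χ : LL → ℂ)) : False := by
  classical
  have := Fintype.ofFinite LL
  have hN : Nat.card LL = 3311126603366400 := cardN
  obtain ⟨hx, hc, -⟩ := H672.OZ.full h (r := 13) (n := 1) (by norm_num) (by norm_num) (by rw [hN]; norm_num)
    (by rw [hN]; norm_num) (by rw [pow_one]; exact h13)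
  have hx2 : ¬ Is2 x := by
    rintro ⟨k, hk⟩
    rw [hx] at hk
    have h3 : 13 ∣ 2 ^ k := by rw [← hk]
    have h4 := (Nat.prime_dvd_prime_iff_eq (by norm_num) (by norm_num)).1
      ((by norm_num : Nat.Prime 13).dvd_of_dvd_pow h3)
    norm_num at h4
  have h3 := (ineq h h2 (Y' := ∅) (t := 0) ⟨fun g hg => by simp at hg, fun g hg => by simp at hg, by simp only [_root_.Finset.card_empty, _root_.CharP.cast_eq_zero, _root_.Nat.card_eq_fintype_card, _root_.MulZeroClass.zero_mul, _root_.add_zero, _root_.Finset.sum_empty, _root_.Std.le_refl]⟩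
    (fun g hg => by simp at hg)).2 hx2
  have h4 : (cent x : ℝ) = ((13 : ℕ) : ℝ) := by rw [hc, pow_one]
  rw [h4] at h3
  norm_num at h3

theorem not_two_of_dvd {r : ℕ} (hr : r.Prime) (hr2 : r ≠ 2) {g : LL} (hg : r ∣ orderOf g) : ¬ Is2 g := by
  rintro ⟨k, hk⟩
  rw [hk] at hg
  exact hr2 ((Nat.prime_dvd_prime_iff_eq hr Nat.prime_two).1 (hr.dvd_of_dvd_pow hg))

theorem not_B (h : _root_.Cfsg.Agent.H732.VZ.One χ x) (h2 : 2 ∣ charDegree (χ : LL → ℂ)) (h25 : ¬ 5 ^ 2 ∣ charDegree (χ : LL → ℂ) ^ 2 - 1)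
    (h49 : ¬ 7 ^ 2 ∣ charDegree (χ : LL → ℂ) ^ 2 - 1) : False := by
  classical
  have := Fintype.ofFinite LL
  have hN : Nat.card LL = 3311126603366400 := cardN
  have hc4 := four_le h
  have hoc : orderOf x ∣ cent x := Subgroup.orderOf_dvd_natCard _ (Subgroup.mem_centralizer_singleton_iff.2 rfl)
  have hx1 := ne_one h
  by_cases hx5 : 5 ∣ orderOf x
  · -- the sections of 7-elements
    have hx2 : ¬ Is2 x := not_two_of_dvd (by norm_num) (by norm_num) hx5
    have hx7 : ¬ 7 ∣ orderOf x := fun h7 => no35 x ⟨hx5, h7⟩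
    have E1 := ex_sing h (r := 7) (n := 2) (by norm_num) (by rw [hN]; norm_num) (by rw [hN]; norm_num) hx7 h49
    have h3 := (ineq h h2 E1 fun g hg => not_two_of_dvd (by norm_num) (by norm_num) (mem_sing.1 hg)).2 hx2
    have h5c : 5 ∣ cent x := hx5.trans hoc
    have h5 : cent x ≠ 5 := fun h5 => by
      have h6 := cent_prime hx1 (by rw [h5]; norm_num)
      rw [h5, hN] at h6
      norm_num at h6
    have h10 : 10 ≤ cent x := by omega
    have h10' : ((10 : ℕ) : ℝ) ≤ cent x := by exact_mod_cast h10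
    have h6 : ((10 : ℕ) : ℝ) * (281474976710656 / 3311126603366400 + 1 / ((7 : ℕ) : ℝ) ^ 2) ≤ 1 :=
      le_trans (mul_le_mul_of_nonneg_right h10' (by positivity)) h3
    norm_num at h6
  · have E1 := ex_sing h (r := 5) (n := 2) (by norm_num) (by rw [hN]; norm_num) (by rw [hN]; norm_num) hx5 h25
    have h3 := ineq h h2 E1 fun g hg => not_two_of_dvd (by norm_num) (by norm_num) (mem_sing.1 hg)
    by_cases hx2 : Is2 x
    · obtain ⟨k, hk⟩ := hx2
      have h16 : 16 ≤ cent x := le_cent hk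
      have h16' : ((16 : ℕ) : ℝ) ≤ cent x := by exact_mod_cast h16
      have h6 : ((16 : ℕ) : ℝ) * (281474976710656 / 3311126603366400 + 1 / ((5 : ℕ) : ℝ) ^ 2) ≤ 2 :=
        le_trans (mul_le_mul_of_nonneg_right h16' (by positivity)) h3.1
      norm_num at h6
    · have h4 := h3.2 hx2
      have h8 : cent x < 8 := by
        by_contra hlt
        rw [not_lt] at hlt
        have h8' : ((8 : ℕ) : ℝ) ≤ cent x := by exact_mod_cast hlt
        have h6 : ((8 : ℕ) : ℝ) * (281474976710656 / 3311126603366400 + 1 / ((5 : ℕ) : ℝ) ^ 2) ≤ 1 :=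
          le_trans (mul_le_mul_of_nonneg_right h8' (by positivity)) h4
        norm_num at h6
      have hcases : cent x = 4 ∨ cent x = 5 ∨ cent x = 6 ∨ cent x = 7 := by omega
      rcases hcases with hc | hc | hc | hc
      · rw [hc] at hoc
        obtain ⟨k, -, hk⟩ := (Nat.dvd_prime_pow Nat.prime_two).1 (show orderOf x ∣ 2 ^ 2 from hoc)
        exact hx2 ⟨k, hk⟩
      · have h6 := cent_prime hx1 (by rw [hc]; norm_num)
        rw [hc, hN] at h6
        norm_num at h6
      · rw [hc] at hoc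
        have h9 : 9 ∣ cent x := by
          have h6 : orderOf x ≤ 6 := Nat.le_of_dvd (by norm_num) hoc
          have h1 : orderOf x ≠ 1 := fun h1 => hx1 (orderOf_eq_one_iff.1 h1)
          have h2' : orderOf x ≠ 2 := fun h2 => hx2 ⟨1, h2.trans (pow_one 2).symm⟩
          have h0 := orderOf_pos x
          have h7 : orderOf x = 3 ∨ orderOf x = 6 := by
            interval_cases hox : orderOf x <;> omega
          rcases h7 with h7 | h7
          · exact nine_dvd_elt (by rw [hN]; norm_num) h7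
          · exact nine_dvd_six (fun t ht => nine_dvd ht) h7
        rw [hc] at h9
        norm_num at h9
      · have h6 := cent_prime hx1 (by rw [hc]; norm_num)
        rw [hc, hN] at h6
        norm_num at h6

theorem no_one (h : _root_.Cfsg.Agent.H732.VZ.One χ x) : False := by
  have hge := deg_ge h
  have hm := mem_deg h
  rw [List.mem_append, List.mem_append] at hm
  rcases hm with (hm | hm) | hm
  · simp only [List.mem_cons, List.not_mem_nil, or_false] at hm
    rcases hm with hm | hm | hm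
    · omega
    · exact not_odd h (Or.inl hm)
    · exact not_odd h (Or.inr hm)
  · obtain ⟨h1, h2⟩ := DA_ok _ hm
    exact not_even13 h (Nat.dvd_of_mod_eq_zero h1) (Nat.dvd_of_mod_eq_zero h2)
  · obtain ⟨h1, h2, h3⟩ := DB_ok _ hm hge
    exact not_B h (Nat.dvd_of_mod_eq_zero h1) (fun h4 => h2 (Nat.mod_eq_zero_of_dvd h4))
      (fun h4 => h3 (Nat.mod_eq_zero_of_dvd h4))

/-- **The row `F₄(2)`**, model over `ZMod 2`. -/
theorem row_LL : H730.OZ.Row LL := row_of fun _ _ h => no_one h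

/-- **The row `F₄(2)`**. -/
theorem row_F4_two {F : Type*} [Field F] [Fintype F] (hF : Fintype.card F = 2) {S : Type u} [Group S] [Finite S]
    (e : S ≃* ↥(chevF4.group F)) : H730.OZ.Row S := by
  obtain ⟨f⟩ := exists_equiv hF
  have hfin : Finite ↥(chevF4.group F) := inferInstance
  have h := @H730.OZ.Row.congr ↥(chevF4.group F) LL inferInstance inferInstance hfin inferInstance
  have h' := @H730.OZ.Row.congr S ↥(chevF4.group F) inferInstance inferInstance inferInstance hfin
  exact h' e (h f row_LL)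

end Cfsg.Agent.H23.OZ.F42
end

private theorem dce_6c52ef8fbe76 : _root_.True := by
  try have : _root_.True := by simp only [_root_.Cfsg.Agent.H23.OZ.sec.congr_simp]
  try have : _root_.True := by simp only [_root_.Cfsg.Agent.H23.OZ.sec.eq_1]
  try have : _root_.True := by simp only [_root_.Cfsg.Agent.H23.OZ.F42.Y2.eq_1]
  exact _root_.True.intro
end
end
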